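import Groth.Agent.EtFound.EdgeVanish
import Groth.Agent.EtFound.PushExact
import Groth.Agent.EtFound.PullExt
import Groth.Agent.EtFound.PullStalk

/-!
# Vanishing from the higher direct images
-/

set_option autoImplicit false
set_option linter.style.haveILetI false
set_option backward.isDefEq.respectTransparency false
set_option backward.isDefEq.respectTransparency.types false
set_option maxHeartbeats 1000000

universe w v u

open CategoryTheory CategoryTheory.Limits CategoryTheory.Abelian

namespace Groth.Agent.GalCd13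

open Groth.Agent.EtFound

section Abstract

variable {A : Type u} [Category.{v} A] [Abelian A] [HasExt.{w} A] [EnoughInjectives A]
  {B : Type*} [Category* B] [Abelian B] [HasExt.{w} B] [EnoughInjectives B]
  {L : B ⥤ A} {R : A ⥤ B} (adj : L ⊣ R) [L.Additive] [PreservesFiniteLimits L] [PreservesFiniteColimits L]
  [R.Additive] [PreservesFiniteLimits R]

include adj in
/-- If all `Ext^a(P, R^b G)` with `a + b = q` vanish then so does `Ext^q(L P, G)`. -/
theorem subsingleton_ext_of_rightDerived (P : B) : ∀ (q : ℕ) (G : A),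
    (∀ a b : ℕ, a + b = q → Subsingleton (Ext P ((R.rightDerived b).obj G) a)) →
      Subsingleton (Ext (L.obj P) G q) := by
  intro q
  induction q with
  | zero =>
    intro G h
    haveI := h 0 0 rfl
    haveI : Subsingleton (Ext P (R.obj G) 0) :=
      (postcomp_bijective (R.rightDerivedZeroIsoSelf.hom.app G) 0).2.subsingleton
    exact (edge_zero_bijective adj P G).2.subsingleton
  | succ q ih =>
    intro G h
    refine subsingleton_of_forall_eq 0 fun y => ?_
    let S := ShortComplex.mk (Injective.ι G) (cokernel.π (Injective.ι G)) (cokernel.condition _)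
    have hS : S.ShortExact := { exact := ShortComplex.exact_of_g_is_cokernel _ (cokernelIsCokernel (Injective.ι G)) }
    haveI : Injective S.X₂ := inferInstanceAs (Injective (Injective.under _))
    haveI := hS.mono_f
    obtain ⟨z, rfl⟩ := Ext.covariant_sequence_exact₁ _ hS y (Ext.eq_zero_of_injective _) (rfl : q + 1 = q + 1)
    let Δ := SESResLib.derivedLES R
    have h2 : IsZero ((R.rightDerived 1).obj S.X₂) := R.isZero_rightDerived_obj_injective_succ 0 S.X₂
    let d : R.obj S.X₃ ⟶ (R.rightDerived 1).obj S.X₁ := R.rightDerivedZeroIsoSelf.inv.app S.X₃ ≫ Δ.δ S hS 0 1 rfl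
    haveI : Epi (Δ.δ S hS 0 1 rfl) := (Δ.exact₁ S hS 0 1 rfl).epi_f (h2.eq_of_tgt _ _)
    haveI : Epi d := epi_comp _ _
    have hgd : R.map S.g ≫ d = 0 := by
      have n := (R.rightDerivedZeroIsoSelf).inv.naturality S.g
      show R.map S.g ≫ R.rightDerivedZeroIsoSelf.inv.app S.X₃ ≫ _ = 0
      rw [← Category.assoc, n, Category.assoc, Δ.comp_δ S hS 0 1 rfl, comp_zero]
    have hex : (ShortComplex.mk (R.map S.g) d hgd).Exact := by
      refine ShortComplex.exact_of_iso ?_ (Δ.exact₃ S hS 0 1 rfl)
      refine ShortComplex.isoMk (R.rightDerivedZeroIsoSelf.app S.X₂) (R.rightDerivedZeroIsoSelf.app S.X₃) (Iso.refl _) ?_ ?_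
      · exact ((R.rightDerivedZeroIsoSelf).hom.naturality S.g).symm
      · show R.rightDerivedZeroIsoSelf.hom.app S.X₃ ≫ d = Δ.δ S hS 0 1 rfl ≫ 𝟙 _
        rw [Category.comp_id, ← Category.assoc, Iso.hom_inv_id_app, Category.id_comp]
    let e : R.obj S.X₂ ⟶ kernel d := kernel.lift d (R.map S.g) hgd
    have he : e ≫ kernel.ι d = R.map S.g := kernel.lift_ι _ _ _
    haveI : Epi e := hex.epi_kernelLift
    let T₁ := ShortComplex.mk (R.map S.f) e (by
      rw [← cancel_mono (kernel.ι d), Category.assoc, he, zero_comp, ← R.map_comp, S.zero, R.map_zero])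
    have hT₁ : T₁.ShortExact :=
      { exact := (ShortComplex.exact_iff_of_epi_of_isIso_of_mono
          (φ := ({ τ₁ := 𝟙 _, τ₂ := 𝟙 _, τ₃ := kernel.ι d,
                   comm₁₂ := by simp [T₁]
                   comm₂₃ := by simp [T₁, he] } : T₁ ⟶ S.map R))).2
            (hS.exact.map_of_mono_of_preservesKernel R inferInstance inferInstance)
        mono_f := inferInstanceAs (Mono (R.map S.f))
        epi_g := inferInstanceAs (Epi e) }
    let T₂ := ShortComplex.mk (kernel.ι d) d (kernel.condition d)
    have hT₂ : T₂.ShortExact := { exact := ShortComplex.exact_of_f_is_kernel _ (kernelIsKernel d) }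
    haveI h0 : Subsingleton (Ext P (R.obj S.X₁) (q + 1)) := by
      haveI := h (q + 1) 0 (add_zero _)
      exact (postcomp_bijective (R.rightDerivedZeroIsoSelf.hom.app S.X₁) (q + 1)).2.subsingleton
    haveI h1 : Subsingleton (Ext P ((R.rightDerived 1).obj S.X₁) q) := h q 1 rfl
    cases q with
    | zero =>
      obtain ⟨f, rfl⟩ := (Ext.mk₀_bijective _ _).2 z
      let w : P ⟶ R.obj S.X₃ := adj.homEquiv _ _ f
      have hw : (Ext.mk₀ w).comp (Ext.mk₀ T₂.g) (add_zero 0) = 0 := Subsingleton.elim (h := h1) _ _
      obtain ⟨w₁, hw₁⟩ := Ext.covariant_sequence_exact₂ _ hT₂ _ hw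
      obtain ⟨u, hu⟩ := Ext.covariant_sequence_exact₃ _ hT₁ w₁ (rfl : 0 + 1 = 1) (Subsingleton.elim (h := h0) _ _)
      obtain ⟨u, rfl⟩ := (Ext.mk₀_bijective _ _).2 u
      subst hu
      rw [Ext.mk₀_comp_mk₀, Ext.mk₀_comp_mk₀] at hw₁
      have h3 : (u ≫ e) ≫ kernel.ι d = w := (Ext.mk₀_bijective _ _).1 hw₁
      rw [Category.assoc, he] at h3
      have hf : (adj.homEquiv _ _).symm u ≫ S.g = f := by
        rw [← Adjunction.homEquiv_naturality_right_symm, h3]
        exact (adj.homEquiv _ _).symm_apply_apply f
      rw [← hf, ← Ext.mk₀_comp_mk₀]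
      exact comp_g_extClass hS _
    | succ q =>
      haveI h3 : Subsingleton (Ext P (R.obj S.X₂) (q + 1)) := by
        haveI : Injective (R.obj S.X₂) := Injective.injective_of_adjoint adj _
        exact subsingleton_of_forall_eq 0 fun _ => Ext.eq_zero_of_injective _
      haveI := ih S.X₃ fun a b hab => by
        cases b with
        | zero =>
          obtain rfl : a = q + 1 := by omega
          suffices Subsingleton (Ext P (R.obj S.X₃) (q + 1)) from
            haveI := this
            (postcomp_bijective (R.rightDerivedZeroIsoSelf.inv.app S.X₃) (q + 1)).2.subsingleton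
          refine subsingleton_of_forall_eq 0 fun v => ?_
          obtain ⟨v₁, hv₁⟩ := Ext.covariant_sequence_exact₂ _ hT₂ v (Subsingleton.elim (h := h1) _ _)
          obtain ⟨v₂, hv₂⟩ := Ext.covariant_sequence_exact₃ _ hT₁ v₁ (rfl : q + 1 + 1 = q + 1 + 1)
            (Subsingleton.elim (h := h0) _ _)
          rw [← hv₁, ← hv₂, show v₂ = 0 from Subsingleton.elim (h := h3) _ _, Ext.zero_comp, Ext.zero_comp]
        | succ b =>
          haveI := h a (b + 2) (by omega)
          haveI : IsIso (Δ.δ S hS (b + 1) (b + 2) rfl) := by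
            haveI := (Δ.exact₃ S hS (b + 1) (b + 2) rfl).mono_g
              ((R.isZero_rightDerived_obj_injective_succ b S.X₂).eq_of_src _ _)
            haveI := (Δ.exact₁ S hS (b + 1) (b + 2) rfl).epi_f
              ((R.isZero_rightDerived_obj_injective_succ (b + 1) S.X₂).eq_of_tgt _ _)
            exact isIso_of_mono_of_epi _
          exact (postcomp_bijective (inv (Δ.δ S hS (b + 1) (b + 2) rfl)) a).2.subsingleton
      rw [show z = 0 from Subsingleton.elim _ _, Ext.zero_comp]

end Abstract

end Groth.Agent.GalCd13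

namespace Groth.Agent.GalCd13

open AlgebraicGeometry Opposite Groth.Agent.EtFound

universe u₁

/-- Cohomology vanishes when that of the higher direct images does. -/
theorem subsingleton_H_of_Rpush {X Y : Scheme.{u₁}} (f : X ⟶ Y) [EtCoh.BCCont f] (F : EtCoh.Ab X) (q : ℕ)
    (h : ∀ a b : ℕ, a + b = q → Subsingleton (EtCoh.H Y ((EtCoh.Rpush f b).obj F) a)) :
    Subsingleton (EtCoh.H X F q) := by
  haveI : PreservesFiniteLimits (EtCoh.pull f) := pull_preservesFiniteLimits f
  haveI : PreservesFiniteLimits (EtCoh.push f) := push_preservesFiniteLimits f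
  haveI : (EtCoh.pull f).IsLeftAdjoint := (EtCoh.pullPushAdj f).isLeftAdjoint
  haveI : PreservesFiniteColimits (EtCoh.pull f) := by
    haveI : PreservesColimitsOfSize.{0, 0} (EtCoh.pull f) := (EtCoh.pullPushAdj f).leftAdjoint_preservesColimits
    exact PreservesColimitsOfSize.preservesFiniteColimits _
  haveI : (EtCoh.pull f).Additive := (EtCoh.pullPushAdj f).left_adjoint_additive
  haveI : (EtCoh.push f).Additive := (EtCoh.pullPushAdj f).right_adjoint_additive
  haveI := subsingleton_ext_of_rightDerived (EtCoh.pullPushAdj f) (EtCoh.const Y ℤ) q F h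
  exact (precomp_bijective (EtCore.pullConst f ℤ).inv q).2.subsingleton

end Groth.Agent.GalCd13
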