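import Groth.Agent.GalCd13.RatFuncFibre
import Groth.Agent.GalCd13.LerayVanish
import Groth.Agent.GabberAff13.FieldExt
import Groth.Agent.Hensel.HenselizationProps
import Groth.Agent.Hensel.Henselization
import Groth.Agent.S0537
import Groth.Agent.S6186
import Mathlib.RingTheory.AlgebraicIndependent.TranscendenceBasis

/-!
# Cohomological dimension of transcendental extensions
-/

set_option autoImplicit false
set_option linter.style.haveILetI false
set_option backward.isDefEq.respectTransparency false
set_option backward.isDefEq.respectTransparency.types false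
set_option maxHeartbeats 1000000

universe u

open CategoryTheory CategoryTheory.Limits AlgebraicGeometry Opposite CategoryTheory.Abelian
open scoped TensorProduct

namespace Groth.Agent.GalCd13

open Groth.Agent.EtFound

/-- An algebraic extension does not increase the cohomological dimension. -/
theorem cohDimLE_of_isAlgebraic {K L : Type u} [Field K] [Field L] [Algebra K L] [Algebra.IsAlgebraic K L] {e : ℕ}
    (hK : EtCoh.CohDimLE (Spec (CommRingCat.of K)) e) : EtCoh.CohDimLE (Spec (CommRingCat.of L)) e := by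
  intro F hF q hq
  let h := Spec.map (CommRingCat.ofHom (algebraMap K L))
  haveI : IsIntegralHom h := IsIntegralHom.SpecMap_iff.2 fun y => Algebra.IsIntegral.isIntegral y
  have ht : EtCoh.IsTorsion ((EtCoh.push h).obj F) :=
    isTorsion_of_iso ((EtCoh.push h).rightDerivedZeroIsoSelf.app F) (isTorsion_Rpush h hF 0)
  obtain ⟨e'⟩ := S8575.nonempty_H_push h F q
  haveI := hK _ ht q hq
  exact e'.symm.toEquiv.subsingleton

/-- An isomorphic field has the same cohomological dimension. -/
theorem cohDimLE_of_ringEquiv {K L : Type u} [Field K] [Field L] (f : K ≃+* L) {e : ℕ}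
    (hK : EtCoh.CohDimLE (Spec (CommRingCat.of K)) e) : EtCoh.CohDimLE (Spec (CommRingCat.of L)) e := by
  letI := f.toRingHom.toAlgebra
  haveI : Algebra.IsAlgebraic K L := ⟨fun y => by
    obtain ⟨x, rfl⟩ := f.surjective y
    exact isAlgebraic_algebraMap x⟩
  exact cohDimLE_of_isAlgebraic hK

variable (K : Type u) [Field K]

local notation "SK" => Spec (CommRingCat.of K)

/-- Higher direct images of torsion sheaves from the rational function field vanish above degree one. -/
theorem isZero_Rpush_ratFunc {F : EtCoh.Ab (Spec (CommRingCat.of (RatFunc K)))} (hF : EtCoh.IsTorsion F) {b : ℕ}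
    (hb : 2 ≤ b) : IsZero ((EtCoh.Rpush (Spec.map (CommRingCat.ofHom (algebraMap K (RatFunc K)))) b).obj F) := by
  classical
  let φ := Spec.map (CommRingCat.ofHom (algebraMap K (RatFunc K)))
  let y : SK := (default : Spec (CommRingCat.of K))
  obtain ⟨R, _, _, _, _, hR'⟩ := S0537.result ((SK).presheaf.stalk y)
  haveI := hR'
  haveI : IsSepClosed (IsLocalRing.ResidueField R) :=
    (Hensel.IsStrictHenselization.isSepClosure (R := (SK).presheaf.stalk y) (S := R)).sep_closed
  let c : CommRingCat.of K ⟶ (SK).presheaf.stalk y :=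
    (Scheme.ΓSpecIso (CommRingCat.of K)).inv ≫ (SK).presheaf.germ ⊤ y trivial
  have hc : Function.Surjective c.hom := fun z => by
    obtain ⟨U, hU, s, rfl⟩ := TopCat.Presheaf.germ_exist (SK).presheaf z
    obtain rfl : U = ⊤ := eq_top_iff.2 fun w _ =>
      (@Subsingleton.elim (Spec (CommRingCat.of K)) (inferInstanceAs (Subsingleton (PrimeSpectrum K))) y w) ▸ hU
    obtain ⟨t, rfl⟩ := (ConcreteCategory.bijective_of_isIso (Scheme.ΓSpecIso (CommRingCat.of K)).inv).2 s
    exact ⟨t, rfl⟩
  have hfld : IsField ((SK).presheaf.stalk y) := by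
    refine IsLocalRing.isField_iff_maximalIdeal_eq.2 (le_bot_iff.1 fun z hz => ?_)
    obtain ⟨t, rfl⟩ := hc z
    by_cases ht : t = 0
    · rw [ht, map_zero]; exact zero_mem _
    · exact absurd ((isUnit_iff_ne_zero.2 ht).map c.hom) ((IsLocalRing.mem_maximalIdeal _).1 hz)
  have hmax : IsLocalRing.maximalIdeal R = ⊥ := by
    rw [← Hensel.map_maximalIdeal_of_isStrictHenselization (R := (SK).presheaf.stalk y) (S := R),
      IsLocalRing.isField_iff_maximalIdeal_eq.1 hfld, Ideal.map_bot]
  letI : Field R := (IsLocalRing.isField_iff_maximalIdeal_eq.2 hmax).toField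
  have hres : Function.Bijective (IsLocalRing.residue R) :=
    ⟨(IsLocalRing.residue R).injective, IsLocalRing.residue_surjective⟩
  let eR : R ≃+* IsLocalRing.ResidueField R := RingEquiv.ofBijective _ hres
  haveI : IsSepClosed R := Hensel.isSepClosed_of_ringEquiv eR.symm
  let a : (SK).presheaf.stalk y →+* R := algebraMap ((SK).presheaf.stalk y) R
  letI : Algebra K R := (a.comp c.hom).toAlgebra
  haveI : Algebra.IsAlgebraic K R := ⟨fun z => by
    let κ := IsLocalRing.ResidueField ((SK).presheaf.stalk y)
    haveI : Algebra.IsSeparable κ (IsLocalRing.ResidueField R) :=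
      (Hensel.IsStrictHenselization.isSepClosure (R := (SK).presheaf.stalk y) (S := R)).separable
    refine IsIntegral.isAlgebraic ?_
    obtain ⟨P, hP, hPz⟩ := Algebra.IsIntegral.isIntegral (R := κ) (IsLocalRing.residue R z)
    let π : K →+* κ := (IsLocalRing.residue ((SK).presheaf.stalk y)).comp c.hom
    have hπ : Function.Surjective π := IsLocalRing.residue_surjective.comp hc
    obtain ⟨Q, hQ, -, hQm⟩ := Polynomial.lifts_and_natDegree_eq_and_monic
      ((Polynomial.lifts_iff_coeff_lifts P).2 fun n => hπ (P.coeff n)) hP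
    refine ⟨Q, hQm, (IsLocalRing.residue R).injective ?_⟩
    rw [map_zero, ← hPz, Polynomial.hom_eval₂, ← hQ, Polynomial.eval₂_map]
    rfl⟩
  have hspec : Hens2.specOf SK y R = Spec.map (CommRingCat.ofHom (algebraMap K R)) := by
    show Spec.map (CommRingCat.ofHom a) ≫ (SK).fromSpecStalk y = _
    rw [Spec.fromSpecStalk_eq, ← Spec.map_comp]
    rfl
  obtain ⟨e⟩ := S6186.result φ y R b
  have h1 : Subsingleton ((EtCoh.stalk (Hens2.geomPt SK y R)).obj ((EtCoh.Rpush φ b).obj F)) := by
    refine @Equiv.subsingleton _ _ (e.app F).addCommGroupIsoToAddEquiv.toEquiv ?_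
    let k : Spec (CommRingCat.of (RatFunc K ⊗[K] R)) ⟶ pullback φ (Hens2.specOf SK y R) :=
      (pullbackSpecIso K (RatFunc K) R).inv ≫ (pullback.congrHom rfl hspec.symm).hom
    haveI : IsIso k := inferInstance
    haveI : PreservesFiniteLimits (EtCoh.pull k) := pull_preservesFiniteLimits _
    let G := (EtCoh.pull (pullback.fst φ (Hens2.specOf SK y R))).obj F
    have hG : EtCoh.IsTorsion ((EtCoh.pull k).obj G) :=
      (BCCrit13.isLTorsion_univ_iff _).1 (isLTorsion_pull k Set.univ
        (isLTorsion_pull (pullback.fst φ (Hens2.specOf SK y R)) Set.univ ((BCCrit13.isLTorsion_univ_iff _).2 hF)))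
    haveI := subsingleton_H_tensor K R hG hb
    exact (Hpull_bijective_of_isIso k G b).1.subsingleton
  refine (IsZero.iff_id_eq_zero _).2 (eq_of_stalks _ _ fun Ω _ _ ξ => AddCommGrpCat.ext fun z => ?_)
  obtain ⟨e₁⟩ := nonempty_stalk_equiv ((EtCoh.Rpush φ b).obj F) ξ (Hens2.geomPt SK y R)
    (@Subsingleton.elim (Spec (CommRingCat.of K)) (inferInstanceAs (Subsingleton (PrimeSpectrum K))) _ _)
  exact @Subsingleton.elim _ (@Equiv.subsingleton _ _ e₁ h1) _ _

/-- Rational functions in one variable add at most one to the cohomological dimension. -/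
theorem cohDimLE_ratFunc {e : ℕ} (hK : EtCoh.CohDimLE SK e) :
    EtCoh.CohDimLE (Spec (CommRingCat.of (RatFunc K))) (e + 1) := by
  intro F hF q hq
  refine subsingleton_H_of_Rpush (Spec.map (CommRingCat.ofHom (algebraMap K (RatFunc K)))) F q fun a b hab => ?_
  by_cases hb : 2 ≤ b
  · exact subsingleton_of_forall_eq 0 fun x => by
      have h0 := (IsZero.iff_id_eq_zero _).1 (isZero_Rpush_ratFunc K hF hb)
      rw [← Ext.comp_mk₀_id x, h0, Ext.mk₀_zero, Ext.comp_zero]
  · exact hK _ (isTorsion_Rpush _ hF b) a (by omega)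

/-- Cohomological dimension grows at most by the transcendence degree. -/
theorem cohDimLE_of_trdeg : ∀ (n : ℕ) (K : Type u) [Field K] (L : Type u) [Field L] [Algebra K L] (e : ℕ),
    EtCoh.CohDimLE (Spec (CommRingCat.of K)) e → Algebra.trdeg K L ≤ n →
      EtCoh.CohDimLE (Spec (CommRingCat.of L)) (e + n) := by
  intro n
  induction n with
  | zero =>
    intro K _ L _ _ e hK htr
    haveI : Algebra.IsAlgebraic K L := trdeg_eq_zero_iff.1 (le_antisymm (by simpa using htr) (zero_le))
    exact cohDimLE_of_isAlgebraic hK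
  | succ n ih =>
    intro K _ L _ _ e hK htr
    by_cases hL : Algebra.IsAlgebraic K L
    · exact fun F hF q hq => cohDimLE_of_isAlgebraic hK F hF q (by omega)
    obtain ⟨t, ht⟩ : ∃ t : L, Transcendental K t := by
      by_contra! h
      exact hL ⟨fun x => not_not.1 (h x)⟩
    let K₁ := IntermediateField.adjoin K ({t} : Set L)
    have hK₁ : EtCoh.CohDimLE (Spec (CommRingCat.of K₁)) (e + 1) :=
      cohDimLE_of_ringEquiv (RatFunc.algEquivOfTranscendental t ht).toRingEquiv (cohDimLE_ratFunc K hK)
    have h1 : 1 ≤ Algebra.trdeg K K₁ := by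
      refine Cardinal.one_le_iff_pos.2 (pos_iff_ne_zero.2 fun h0 => ht ?_)
      haveI : Algebra.IsAlgebraic K K₁ := trdeg_eq_zero_iff.1 h0
      exact IntermediateField.isAlgebraic_iff.1 (Algebra.IsAlgebraic.isAlgebraic (R := K)
        (⟨t, IntermediateField.mem_adjoin_simple_self K t⟩ : K₁))
    have hadd := trdeg_add_eq K K₁ (A := L)
    have hle : 1 + Algebra.trdeg K₁ L ≤ (n : Cardinal.{u}) + 1 := by
      calc 1 + Algebra.trdeg K₁ L ≤ Algebra.trdeg K K₁ + Algebra.trdeg K₁ L := by gcongr
        _ = Algebra.trdeg K L := hadd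
        _ ≤ _ := by exact_mod_cast htr
    have h := ih K₁ L (e + 1) hK₁ ((Cardinal.add_le_add_iff_of_lt_aleph0 (Cardinal.natCast_lt_aleph0 (n := 1))).1 (by
      simpa [add_comm] using hle))
    intro F hF q hq
    exact h F hF q (by omega)

end Groth.Agent.GalCd13
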