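import Groth.Agent.GalCd13.Trdeg
import Groth.Agent.EtTrace.Kummer
import Groth.Agent.EtFound.AbLocEq

/-!
# The `ℓ`-cohomological dimension of transcendental extensions
-/

set_option autoImplicit false
set_option linter.style.haveILetI false
set_option backward.isDefEq.respectTransparency false
set_option backward.isDefEq.respectTransparency.types false
set_option maxHeartbeats 1000000

universe u

open CategoryTheory CategoryTheory.Limits AlgebraicGeometry Opposite CategoryTheory.Abelian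

namespace Groth.Agent.GalCd13

open Groth.Agent.EtFound Groth.Agent.EtTrace

variable {X : Scheme.{u}} {ℓ : ℕ}

/-- Maps into `ℓ`-primary torsion sheaves killed by a number prime to `ℓ` vanish. -/
theorem eq_zero_of_coprime_hom (hℓ : ℓ.Prime) {G F : EtCoh.Ab X} (hF : Dix.IsPrimaryTorsion ℓ F) (g : G ⟶ F) {r : ℕ}
    (hr : ¬ ℓ ∣ r) (hg : r • g = 0) : g = 0 := by
  refine Sheaf.hom_ext (NatTrans.ext (funext fun U => AddCommGrpCat.ext fun s => ?_))
  let t : EtCoh.sect F U.unop := g.hom.app U s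
  have hrt : r • t = 0 := by
    refine (nsmul_hom_app g r U.unop s).symm.trans ?_
    rw [hg]
    rfl
  refine (AbLocEq.eq_of_aEq F fun x => ?_ : t = 0)
  obtain ⟨V, a, ⟨v, hv⟩, k, hk⟩ := hF U.unop t x
  refine ⟨V, a, ⟨v, hv⟩, ?_⟩
  show F.obj.map a.op t = F.obj.map a.op 0
  rw [map_zero]
  have h1 : r • F.obj.map a.op t = 0 := by rw [← map_nsmul, hrt, map_zero]
  have hd : addOrderOf (F.obj.map a.op t) ∣ 1 := by
    rw [← (Nat.Coprime.pow_left k ((Nat.Prime.coprime_iff_not_dvd hℓ).2 hr))]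
    exact Nat.dvd_gcd (addOrderOf_dvd_of_nsmul_eq_zero hk) (addOrderOf_dvd_of_nsmul_eq_zero h1)
  exact AddMonoid.addOrderOf_eq_one_iff.1 (Nat.dvd_one.1 hd)

/-- Classes of `ℓ`-primary torsion sheaves come from sheaves killed by a power of `ℓ`. -/
theorem exists_bounded_primary [CompactSpace X] [QuasiSeparatedSpace X] (hℓ : ℓ.Prime) {F : EtCoh.Ab X}
    (hF : Dix.IsPrimaryTorsion ℓ F) (q : ℕ) (x : EtCoh.H X F q) :
    ∃ (G : EtCoh.Ab X) (a : ℕ) (f : G ⟶ F) (y : EtCoh.H X G q),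
      ℓ ^ a • 𝟙 G = 0 ∧ y.comp (Ext.mk₀ f) (add_zero q) = x := by
  have htor : EtCoh.IsTorsion F := fun U s x => by
    obtain ⟨V, g, hv, k, hk⟩ := hF U s x
    exact ⟨V, g, hv, isOfFinAddOrder_iff_nsmul_eq_zero.2 ⟨ℓ ^ k, Nat.pow_pos hℓ.pos, hk⟩⟩
  obtain ⟨G, N, f, y, hN, hGN, rfl⟩ := exists_bounded htor q x
  obtain ⟨a, r, hr, rfl⟩ := Nat.exists_eq_pow_mul_and_not_dvd hN.ne' ℓ hℓ.ne_one
  have hzero : ℓ ^ a • f = 0 := eq_zero_of_coprime_hom hℓ hF _ hr (by
    rw [← mul_smul, mul_comm, ← Category.id_comp f, ← Preadditive.nsmul_comp, hGN, zero_comp])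
  have hco : IsCoprime ((ℓ ^ a : ℕ) : ℤ) (r : ℤ) :=
    Nat.isCoprime_iff_coprime.2 (Nat.Coprime.pow_left a ((Nat.Prime.coprime_iff_not_dvd hℓ).2 hr))
  obtain ⟨v, w, hvw⟩ := hco
  let e : G ⟶ kernel (ℓ ^ a • 𝟙 G) := kernel.lift _ (w • (r • 𝟙 G)) (by
    rw [Preadditive.comp_nsmul, Category.comp_id, smul_comm, ← mul_smul (ℓ ^ a) r, hGN, smul_zero])
  refine ⟨kernel (ℓ ^ a • 𝟙 G), a, kernel.ι _ ≫ f, y.comp (Ext.mk₀ e) (add_zero q), ?_, ?_⟩
  · rw [← cancel_mono (kernel.ι (ℓ ^ a • 𝟙 G)), zero_comp, Preadditive.nsmul_comp, Category.id_comp,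
      ← Category.comp_id (kernel.ι (ℓ ^ a • 𝟙 G)), ← Preadditive.comp_nsmul]
    exact kernel.condition _
  · rw [Ext.comp_assoc_of_third_deg_zero, Ext.mk₀_comp_mk₀, kernel.lift_ι_assoc, Preadditive.zsmul_comp,
      Preadditive.nsmul_comp, Category.id_comp]
    refine congrArg (fun t => y.comp (Ext.mk₀ t) (add_zero q)) ?_
    have h1 : (v * ((ℓ ^ a : ℕ) : ℤ) + w * (r : ℤ)) • f = f := by rw [hvw, one_zsmul]
    rw [add_smul, mul_smul, mul_smul, natCast_zsmul, natCast_zsmul, hzero, smul_zero, zero_add] at h1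
    exact h1

/-- Vanishing above `d` for sheaves killed by powers of `ℓ`. -/
def KilledVanish (X : Scheme.{u}) (ℓ d : ℕ) : Prop :=
  ∀ (G : EtCoh.Ab X) (a : ℕ), ℓ ^ a • 𝟙 G = 0 → ∀ q : ℕ, d < q → Subsingleton (EtCoh.H X G q)

theorem killedVanish_of_cohDimLEAt {d : ℕ} (h : Dix.CohDimLEAt X ℓ d) : KilledVanish X ℓ d :=
  fun G a ha => h G (isPrimaryTorsion_of_nsmul_id (m := a) ha)

theorem cohDimLEAt_of_killedVanish [CompactSpace X] [QuasiSeparatedSpace X] (hℓ : ℓ.Prime) {d : ℕ}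
    (h : KilledVanish X ℓ d) : Dix.CohDimLEAt X ℓ d := fun F hF q hq => subsingleton_of_forall_eq 0 fun x => by
  obtain ⟨G, a, f, y, ha, rfl⟩ := exists_bounded_primary hℓ hF q x
  haveI := h G a ha q hq
  rw [show y = 0 from Subsingleton.elim (α := EtCoh.H X G q) _ _, Ext.zero_comp]

theorem killedVanish_of_isAlgebraic {K L : Type u} [Field K] [Field L] [Algebra K L] [Algebra.IsAlgebraic K L] {d : ℕ}
    (hK : KilledVanish (Spec (CommRingCat.of K)) ℓ d) : KilledVanish (Spec (CommRingCat.of L)) ℓ d := by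
  intro G a ha q hq
  let h := Spec.map (CommRingCat.ofHom (algebraMap K L))
  haveI : IsIntegralHom h := IsIntegralHom.SpecMap_iff.2 fun y => Algebra.IsIntegral.isIntegral y
  haveI : (EtCoh.push h).Additive := (EtCoh.pullPushAdj h).right_adjoint_additive
  obtain ⟨e'⟩ := S8575.nonempty_H_push h G q
  haveI := hK _ a (nsmul_map (EtCoh.push h) ha) q hq
  exact e'.symm.toEquiv.subsingleton

theorem killedVanish_ratFunc (hℓ : 0 < ℓ) (K : Type u) [Field K] {d : ℕ}
    (hK : KilledVanish (Spec (CommRingCat.of K)) ℓ d) :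
    KilledVanish (Spec (CommRingCat.of (RatFunc K))) ℓ (d + 1) := by
  intro G a ha q hq
  let φ := Spec.map (CommRingCat.ofHom (algebraMap K (RatFunc K)))
  haveI : (EtCoh.push φ).Additive := (EtCoh.pullPushAdj φ).right_adjoint_additive
  refine subsingleton_H_of_Rpush φ G q fun i b hab => ?_
  by_cases hb : 2 ≤ b
  · exact subsingleton_of_forall_eq 0 fun x => by
      have h0 := (IsZero.iff_id_eq_zero _).1
        (isZero_Rpush_ratFunc K (isTorsion_of_nsmul_id (Nat.pow_pos hℓ) ha) hb)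
      rw [← Ext.comp_mk₀_id x, h0, Ext.mk₀_zero, Ext.comp_zero]
  · exact hK _ a (nsmul_map (EtCoh.Rpush φ b) ha) i (by omega)

theorem killedVanish_of_trdeg (hℓ : 0 < ℓ) : ∀ (n : ℕ) (K : Type u) [Field K] (L : Type u) [Field L] [Algebra K L]
    (d : ℕ), KilledVanish (Spec (CommRingCat.of K)) ℓ d → Algebra.trdeg K L ≤ n →
      KilledVanish (Spec (CommRingCat.of L)) ℓ (d + n) := by
  intro n
  induction n with
  | zero =>
    intro K _ L _ _ d hK htr
    haveI : Algebra.IsAlgebraic K L := trdeg_eq_zero_iff.1 (le_antisymm (by simpa using htr) (zero_le))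
    exact killedVanish_of_isAlgebraic hK
  | succ n ih =>
    intro K _ L _ _ d hK htr
    by_cases hL : Algebra.IsAlgebraic K L
    · exact fun G a ha q hq => killedVanish_of_isAlgebraic hK G a ha q (by omega)
    obtain ⟨t, ht⟩ : ∃ t : L, Transcendental K t := by
      by_contra! h
      exact hL ⟨fun x => not_not.1 (h x)⟩
    let K₁ := IntermediateField.adjoin K ({t} : Set L)
    have hK₁ : KilledVanish (Spec (CommRingCat.of K₁)) ℓ (d + 1) := by
      let f : RatFunc K ≃+* K₁ := (RatFunc.algEquivOfTranscendental t ht).toRingEquiv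
      letI := f.toRingHom.toAlgebra
      haveI : Algebra.IsAlgebraic (RatFunc K) K₁ := ⟨fun y => by
        obtain ⟨x, rfl⟩ := f.surjective y
        exact isAlgebraic_algebraMap x⟩
      exact killedVanish_of_isAlgebraic (killedVanish_ratFunc hℓ K hK)
    have h1 : 1 ≤ Algebra.trdeg K K₁ := by
      refine Cardinal.one_le_iff_pos.2 (pos_iff_ne_zero.2 fun h0 => ht ?_)
      haveI : Algebra.IsAlgebraic K K₁ := trdeg_eq_zero_iff.1 h0
      exact IntermediateField.isAlgebraic_iff.1 (Algebra.IsAlgebraic.isAlgebraic (R := K)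
        (⟨t, IntermediateField.mem_adjoin_simple_self K t⟩ : K₁))
    have hadd := trdeg_add_eq K K₁ (A := L)
    have hle : 1 + Algebra.trdeg K₁ L ≤ (n : Cardinal.{u}) + 1 := by
      calc 1 + Algebra.trdeg K₁ L ≤ Algebra.trdeg K K₁ + Algebra.trdeg K₁ L := by gcongr
        _ = Algebra.trdeg K L := hadd
        _ ≤ _ := by exact_mod_cast htr
    have h := ih K₁ L (d + 1) hK₁ ((Cardinal.add_le_add_iff_of_lt_aleph0 (Cardinal.natCast_lt_aleph0 (n := 1))).1 (by
      simpa [add_comm] using hle))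
    exact fun G a ha q hq => h G a ha q (by omega)

end Groth.Agent.GalCd13
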