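import Groth.Agent.GalCd13.ConstVanish
import Groth.Agent.EtTrace.CohDim

/-!
# Degree one extensions and primary decomposition of classes
-/

set_option autoImplicit false
set_option linter.style.haveILetI false
set_option backward.isDefEq.respectTransparency false
set_option backward.isDefEq.respectTransparency.types false
set_option maxHeartbeats 1000000

universe u

open CategoryTheory CategoryTheory.Limits AlgebraicGeometry Opposite CategoryTheory.Abelian

namespace Groth.Agent.GalCd13

open Groth.Agent.EtFound Groth.Agent.EtTrace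

/-- An element all of whose primary parts vanish is zero. -/
theorem eq_zero_of_primary {A : Type*} [AddCommGroup A]
    (h : ∀ ℓ : ℕ, ℓ.Prime → ∀ (b : ℕ) (x : A), ℓ ^ b • x = 0 → x = 0) :
    ∀ (N : ℕ), 0 < N → ∀ x : A, N • x = 0 → x = 0 := by
  intro N
  induction N using Nat.recOnPrimePow with
  | zero => exact fun h => absurd h (lt_irrefl 0)
  | one => exact fun _ x hx => by rwa [one_nsmul] at hx
  | prime_pow_mul a q b hq hqa hb ih =>
    intro hpos x hx
    rw [mul_comm, mul_smul] at hx
    refine h q hq b x (ih (Nat.pos_of_mul_pos_left hpos) _ ?_)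
    exact hx

variable {K : Type u} [Field K]

/-- Constant coefficients over an extension of degree one. -/
theorem coprimeVanish_of_pow {p n : ℕ} [Fact p.Prime]
    (hpro : ∀ (M : Type u) [Field M] [Algebra K M], FiniteDimensional K M → Algebra.IsSeparable K M →
      ∃ m : ℕ, Module.finrank K M = p ^ m)
    (h : Subsingleton (EtCoh.H (Spec (CommRingCat.of K)) (EtCoh.const (Spec (CommRingCat.of K)) (ZMod p)) (n + 1))) :
    CoprimeVanish p n K := by
  intro M _ _ _ _ hM x
  obtain ⟨m, hm⟩ := hpro M inferInstance inferInstance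
  obtain rfl : m = 0 := Nat.eq_zero_of_not_pos fun hpos => hM (hm ▸ dvd_pow_self p hpos.ne')
  rw [pow_zero] at hm
  have hsur : Function.Surjective (algebraMap K M) := fun y => by
    have h : (⊥ : Subalgebra K M) = ⊤ := Subalgebra.bot_eq_top_of_finrank_eq_one hm
    exact Algebra.mem_bot.1 (h.symm ▸ Algebra.mem_top : y ∈ (⊥ : Subalgebra K M))
  let e : K ≃ₐ[K] M := AlgEquiv.ofBijective (Algebra.ofId K M) ⟨(algebraMap K M).injective, hsur⟩
  haveI := isIso_from_self K
  haveI : IsIso (homOf e.toAlgHom) := by
    refine ⟨homOf e.symm.toAlgHom, ?_, ?_⟩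
    · rw [homOf_comp]
      exact (congrArg homOf (AlgHom.ext fun y => e.apply_symm_apply y)).trans homOf_id
    · rw [homOf_comp]
      exact (congrArg homOf (AlgHom.ext fun y => e.symm_apply_apply y)).trans homOf_id
  haveI : IsIso ((EtCore.topIsTerminal (Spec (CommRingCat.of K))).from (obj K M)) := by
    rw [(EtCore.topIsTerminal (Spec (CommRingCat.of K))).hom_ext ((EtCore.topIsTerminal _).from (obj K M))
      (homOf e.toAlgHom ≫ (EtCore.topIsTerminal _).from (obj K K))]
    infer_instance
  haveI : IsIso (aug (obj K M)) := isIso_aug_of_isIso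
  haveI : IsIso (𝟙 (obj K M).left) := IsIso.id _
  obtain ⟨x', rfl⟩ := (postcomp_bijective (EtCore.pullConst (pr K M) (ZMod p)).hom (n + 1)).2 x
  obtain ⟨y, rfl⟩ := (ptMap_bijective (pr K M) (obj K M) (𝟙 _) (Category.id_comp _) _ (n + 1)).2 x'
  obtain ⟨w, rfl⟩ := (precomp_bijective (aug (obj K M)) (n + 1)).2 y
  rw [show w = 0 from h.elim _ _]
  simp

end Groth.Agent.GalCd13
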