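import Groth.Agent.GalCd13.Restr
import Groth.Agent.EtTrace.CohDim
import Groth.Agent.EtFound.TorsionCoh
import Groth.Agent.EtFound.ConstStalk
import Groth.Agent.S0131
import Groth.Agent.S0134

/-!
# Bounds on the `p`-cohomological dimension from constant coefficients
-/

set_option autoImplicit false
set_option linter.style.haveILetI false
set_option backward.isDefEq.respectTransparency false
set_option backward.isDefEq.respectTransparency.types false
set_option maxHeartbeats 1000000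

universe u

open CategoryTheory CategoryTheory.Limits AlgebraicGeometry Opposite CategoryTheory.Abelian

namespace Groth.Agent.GalCd13

open Groth.Agent.EtFound Groth.Agent.EtTrace

/-- `H^{n+1}(ℤ/p)` vanishes over finite separable extensions of degree prime to `p`. -/
def CoprimeVanish (p n : ℕ) (K : Type u) [Field K] : Prop :=
  ∀ (M : Type u) [Field M] [Algebra K M] [FiniteDimensional K M] [Algebra.IsSeparable K M],
    ¬ p ∣ Module.finrank K M →
      ∀ x : EtCoh.H (Spec (CommRingCat.of M)) (EtCoh.const (Spec (CommRingCat.of M)) (ZMod p)) (n + 1), x = 0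

variable {p n : ℕ} [Fact p.Prime]

theorem CoprimeVanish.extension {K : Type u} [Field K] (h : CoprimeVanish p n K) (M : Type u) [Field M] [Algebra K M]
    [FiniteDimensional K M] [Algebra.IsSeparable K M] (hM : ¬ p ∣ Module.finrank K M) : CoprimeVanish p n M := by
  intro M' _ _ _ _ hM'
  letI : Algebra K M' := ((algebraMap M M').comp (algebraMap K M)).toAlgebra
  haveI : IsScalarTower K M M' := IsScalarTower.of_algebraMap_eq fun _ => rfl
  haveI : FiniteDimensional K M' := Module.Finite.trans M M'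
  haveI : Algebra.IsSeparable K M' := Algebra.IsSeparable.trans K M M'
  refine h M' ?_
  rw [← Module.finrank_mul_finrank K M M', (Fact.out : p.Prime).dvd_mul]
  exact fun h' => h'.elim hM hM'

variable {X : Scheme.{u}}

theorem nsmul_cokernel {A B : EtCoh.Ab X} (f : A ⟶ B) {N : ℕ} (h : N • 𝟙 B = 0) : N • 𝟙 (cokernel f) = 0 := by
  rw [← cancel_epi (cokernel.π f), comp_zero, Preadditive.comp_nsmul, Category.comp_id,
    ← Category.id_comp (cokernel.π f), ← Preadditive.nsmul_comp, h, zero_comp]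

theorem nsmul_map {Y : Scheme.{u}} (T : EtCoh.Ab X ⥤ EtCoh.Ab Y) [T.Additive] {B : EtCoh.Ab X} {N : ℕ}
    (h : N • 𝟙 B = 0) : N • 𝟙 (T.obj B) = 0 := by
  rw [← CategoryTheory.Functor.map_id, ← Functor.map_nsmul, h, Functor.map_zero]

theorem comp_eq_zero_of_killed {F : EtCoh.Ab X} {N : ℕ} {q : ℕ} (x : EtCoh.H X F q) (hF : N • 𝟙 F = 0) :
    N • x = 0 := by
  rw [nsmul_eq_comp, hF, Ext.mk₀_zero, Ext.comp_zero]

theorem nsmul_const_zmod (Y : Scheme.{u}) (p : ℕ) : p • 𝟙 (EtCoh.const Y (ZMod p)) = 0 := by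
  haveI : PreservesFiniteLimits (constantSheaf Y.smallEtaleTopology AddCommGrpCat.{u + 1}) :=
    comp_preservesFiniteLimits _ _
  haveI : (constantSheaf Y.smallEtaleTopology AddCommGrpCat.{u + 1}).Additive :=
    Functor.additive_of_preserves_binary_products _
  rw [← CategoryTheory.Functor.map_id (constantSheaf Y.smallEtaleTopology AddCommGrpCat.{u + 1}), ← Functor.map_nsmul]
  refine (congrArg _ ?_).trans (Functor.map_zero _ _ _)
  refine AddCommGrpCat.ext fun m => ?_
  show (p • m : ULift.{u + 1} (ZMod p)) = 0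
  exact ULift.ext _ _ (by simp)

/-- A nonzero map from `ℤ/p` is a monomorphism. -/
theorem mono_of_ne_zero {K : Type u} [Field K] {F : EtCoh.Ab (Spec (CommRingCat.of K))}
    (ι : EtCoh.const (Spec (CommRingCat.of K)) (ZMod p) ⟶ F) (hι : ι ≠ 0) :
    Mono ι ∧ ∃ (Ω : Type u) (_ : Field Ω) (_ : IsSepClosed Ω) (ξ : Spec (CommRingCat.of Ω) ⟶ Spec (CommRingCat.of K)),
      ∃ a, (EtCoh.stalk ξ).map ι a ≠ 0 := by
  obtain ⟨Ω, _, _, ξ, a, ha⟩ : ∃ (Ω : Type u) (_ : Field Ω) (_ : IsSepClosed Ω)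
      (ξ : Spec (CommRingCat.of Ω) ⟶ Spec (CommRingCat.of K)), ∃ a, (EtCoh.stalk ξ).map ι a ≠ 0 := by
    by_contra! h
    refine hι (eq_of_stalks ι 0 fun Ω i j ξ => AddCommGrpCat.ext fun a => ?_)
    refine (h Ω i j ξ a).trans ?_
    rw [show ((EtCoh.stalk ξ).map (0 : EtCoh.const (Spec (CommRingCat.of K)) (ZMod p) ⟶ F)) = 0 from Functor.map_zero _ _ _]
    rfl
  refine ⟨?_, Ω, inferInstance, inferInstance, ξ, a, ha⟩
  have hinj : Function.Injective ((EtCoh.stalk ξ).map ι) := by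
    let u : (Scheme.pointSmallEtale ξ).fiber.obj (EtCoh.top (Spec (CommRingCat.of K))) :=
      CategoryTheory.Over.homMk ξ (Category.comp_id ξ)
    have hb := toSheafify_const_germ_bijective ξ AddCommGrpCat.{u + 1} (AddCommGrpCat.of (ULift.{u + 1} (ZMod p)))
      (EtCoh.top (Spec (CommRingCat.of K))) u
    let g : ULift.{u + 1} (ZMod p) →+ (EtCoh.stalk ξ).obj F :=
      ((toSheafify _ ((Functor.const _).obj (AddCommGrpCat.of (ULift.{u + 1} (ZMod p))))).app
        (op (EtCoh.top (Spec (CommRingCat.of K)))) ≫ (Scheme.pointSmallEtale ξ).toPresheafFiber _ u _ ≫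
        (EtCoh.stalk ξ).map ι).hom
    haveI : Fact (Nat.card (ULift.{u + 1} (ZMod p))).Prime := ⟨by
      rw [Nat.card_ulift, Nat.card_zmod]; exact Fact.out⟩
    have hg : g.ker = ⊥ := (g.ker.eq_bot_or_eq_top_of_prime_card).resolve_right fun ht => ha <| by
      obtain ⟨m, hm⟩ := hb.2 a
      rw [← hm]
      exact (ht.ge trivial : m ∈ g.ker)
    intro b c hbc
    obtain ⟨m, rfl⟩ := hb.2 b
    obtain ⟨l, rfl⟩ := hb.2 c
    rw [(AddMonoidHom.ker_eq_bot_iff g).1 hg hbc]
  refine Preadditive.mono_of_cancel_zero _ fun {A} w hw => eq_of_stalks w 0 fun Ω' _ _ ξ' => ?_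
  have hinj' := injective_stalk_congr ι ξ ξ' (base_eq K ξ ξ') hinj
  refine AddCommGrpCat.ext fun b => hinj' ?_
  refine (ConcreteCategory.congr_hom ((EtCoh.stalk ξ').map_comp w ι) b).symm.trans ?_
  rw [hw, Functor.map_zero]
  show _ = (EtCoh.stalk ξ').map ι ((EtCoh.stalk ξ').map 0 b)
  rw [Functor.map_zero]
  exact (map_zero _).symm

/-- Vanishing for sheaves with finite stalks. -/
theorem eq_zero_of_finite_stalk : ∀ (c : ℕ) (K : Type u) [Field K], CoprimeVanish p n K →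
    ∀ (D : EtCoh.Ab (Spec (CommRingCat.of K))), p • 𝟙 D = 0 →
      (∀ (Ω : Type u) [Field Ω] [IsSepClosed Ω] (ξ : Spec (CommRingCat.of Ω) ⟶ Spec (CommRingCat.of K)),
        Finite ((EtCoh.stalk ξ).obj D) ∧ Nat.card ((EtCoh.stalk ξ).obj D) ≤ c) →
      ∀ x : EtCoh.H (Spec (CommRingCat.of K)) D (n + 1), x = 0 := by
  intro c
  induction c using Nat.strong_induction_on with
  | _ c ih =>
  intro K _ hK D hD hc x
  by_cases hz : ∀ (Ω : Type u) [Field Ω] [IsSepClosed Ω] (ξ : Spec (CommRingCat.of Ω) ⟶ Spec (CommRingCat.of K)),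
      ∀ a : (EtCoh.stalk ξ).obj D, a = 0
  · have h0 : 𝟙 D = 0 := eq_of_stalks _ _ fun Ω _ _ ξ => AddCommGrpCat.ext fun a => (hz Ω ξ _).trans (hz Ω ξ _).symm
    have := comp_eq_zero_of_killed (F := D) (N := 1) x (by rw [one_nsmul, h0])
    rwa [one_nsmul] at this
  push Not at hz
  obtain ⟨Ω, _, _, ξ, a, ha⟩ := hz
  obtain ⟨E, _, _, _, _, hE, ψ, hψ⟩ := exists_fixed hD ξ a ha
  let π := pr K E
  haveI : (EtCoh.pull π).Additive := (EtCoh.pullPushAdj π).left_adjoint_additive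
  let D' := (EtCoh.pull π).obj D
  have hD' : p • 𝟙 D' = 0 := nsmul_map _ hD
  obtain ⟨φ, hφ0⟩ : ∃ φ : EtCoh.const (Spec (CommRingCat.of E)) ℤ ⟶ D', φ ≠ 0 := by
    haveI : IsIso (𝟙 (obj K E).left) := IsIso.id _
    obtain ⟨φ, hφ⟩ := (Ext.mk₀_bijective _ _).2 (ptMap π (obj K E) (𝟙 _) (Category.id_comp _) D 0 (Ext.mk₀ ψ))
    refine ⟨φ, fun h => hψ ((Ext.mk₀_bijective _ _).1 ((ptMap_bijective π (obj K E) (𝟙 _) (Category.id_comp _) D 0).1 ?_))⟩
    rw [← hφ, h, Ext.mk₀_zero, Ext.mk₀_zero]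
    exact (map_zero _).symm
  let g₀ := constVal φ
  have hg₀ : p • g₀ = 0 := by
    have h : constVal (φ ≫ (p • 𝟙 D')) = constVal (φ ≫ (0 : D' ⟶ D')) := by rw [hD']
    rw [constVal_comp, constVal_comp] at h
    refine Eq.trans ?_ (h.trans (by rw [Functor.map_zero]; rfl))
    exact (nsmul_hom_app (𝟙 D') p (EtCoh.top _) g₀).symm
  let gz : { l : ℤ →+ (EtCore.gsec (Spec (CommRingCat.of E))).obj D' // l p = 0 } :=
    ⟨zmultiplesHom _ g₀, by rw [zmultiplesHom_apply, natCast_zsmul]; exact hg₀⟩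
  let l := ZMod.lift p gz
  have hl : l 1 = g₀ := by
    have h := ZMod.lift_coe p gz 1
    rw [Int.cast_one] at h
    exact h.trans (one_zsmul g₀)
  let f : AddCommGrpCat.of (ULift.{u + 1} (ZMod p)) ⟶ (EtCore.gsec (Spec (CommRingCat.of E))).obj D' :=
    AddCommGrpCat.ofHom (l.comp AddEquiv.ulift.toAddMonoidHom)
  let ι : EtCoh.const (Spec (CommRingCat.of E)) (ZMod p) ⟶ D' :=
    ((EtCore.constAdj (Spec (CommRingCat.of E))).homEquiv _ _).symm f
  have hι : ι ≠ 0 := fun h => by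
    have h1 : f = (EtCore.constAdj (Spec (CommRingCat.of E))).homEquiv _ _ (0 : EtCoh.const (Spec (CommRingCat.of E)) (ZMod p) ⟶ D') := by
      rw [← h, Equiv.apply_symm_apply]
    rw [Adjunction.homEquiv_unit, Functor.map_zero, comp_zero] at h1
    have h2 : g₀ = 0 := by
      refine Eq.trans ?_ (ConcreteCategory.congr_hom h1 (ULift.up 1))
      exact hl.symm
    refine hφ0 ((constVal_bijective _).1 (h2.trans ?_))
    rw [← constVal_ofVal (0 : (EtCore.gsec (Spec (CommRingCat.of E))).obj D')]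
    refine congrArg constVal ((constVal_bijective _).1 ?_)
    rw [constVal_ofVal]
    show (0 : _) = (EtCore.constAdj _).homEquiv _ _ (0 : EtCoh.const (Spec (CommRingCat.of E)) ℤ ⟶ D') _
    rw [Adjunction.homEquiv_unit, Functor.map_zero, comp_zero]
    rfl
  obtain ⟨hmono, Ω₁, _, _, ξ₁, b, hb⟩ := mono_of_ne_zero ι hι
  let T := ShortComplex.mk ι (cokernel.π ι) (cokernel.condition ι)
  have hT : T.ShortExact := { exact := ShortComplex.exact_of_g_is_cokernel _ (cokernelIsCokernel ι) }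
  -- the stalks of the quotient are smaller
  obtain ⟨e⟩ := nonempty_stalk_equiv D ξ (ξ₁ ≫ π) (base_eq K _ _)
  obtain ⟨hf₁, hc₁⟩ := hc Ω₁ (ξ₁ ≫ π)
  let e₁ : (EtCoh.stalk ξ₁).obj D' ≃ (EtCoh.stalk (ξ₁ ≫ π)).obj D :=
    ((EtFound.stalkPullIso π ξ₁).app D).addCommGroupIsoToAddEquiv.toEquiv
  haveI : Finite ((EtCoh.stalk ξ₁).obj D') := Finite.of_equiv _ e₁.symm
  have hs : Function.Surjective ((EtCoh.stalk ξ₁).map (cokernel.π ι)) :=
    (AddCommGrpCat.epi_iff_surjective _).1 inferInstance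
  have hlt : Nat.card ((EtCoh.stalk ξ₁).obj (cokernel ι)) < c := by
    refine lt_of_lt_of_le ?_ (le_of_eq_of_le (Nat.card_congr e₁) hc₁)
    refine lt_of_le_of_ne (Nat.card_le_card_of_surjective _ hs) fun heq => hb ?_
    have hinj := (Function.Surjective.bijective_of_nat_card_le hs heq.ge).1
    refine hinj ((ConcreteCategory.congr_hom ((EtCoh.stalk ξ₁).map_comp ι (cokernel.π ι)) b).symm.trans ?_)
    rw [cokernel.condition, Functor.map_zero]
    exact (map_zero _).symm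
  haveI : Finite ((EtCoh.stalk ξ₁).obj (cokernel ι)) := Finite.of_surjective _ hs
  have hQ : ∀ y : EtCoh.H (Spec (CommRingCat.of E)) (cokernel ι) (n + 1), y = 0 :=
    ih _ hlt E (hK.extension E hE) (cokernel ι) (nsmul_cokernel ι hD') fun Ω' _ _ ξ' => by
      obtain ⟨e'⟩ := nonempty_stalk_equiv (cokernel ι) ξ₁ ξ' (base_eq E _ _)
      exact ⟨Finite.of_equiv _ e', (Nat.card_congr e').ge⟩
  obtain ⟨z, hz⟩ := Ext.covariant_sequence_exact₂ _ hT (EtCore.Hpull π D (n + 1) x) (hQ _)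
  have hz0 : z = 0 := hK E hE z
  refine eq_zero_of_coprime E x (((Fact.out : p.Prime).coprime_iff_not_dvd.2 hE).symm) (comp_eq_zero_of_killed x hD) ?_
  rw [← hz, hz0, Ext.zero_comp]

variable {K : Type u} [Field K]

local notation "S" => Spec (CommRingCat.of K)

/-- Vanishing for sheaves killed by `p`. -/
theorem eq_zero_of_killed (hK : CoprimeVanish p n K) (F : EtCoh.Ab S) (hF : p • 𝟙 F = 0)
    (x : EtCoh.H S F (n + 1)) : x = 0 := by
  obtain ⟨J, _, _, T, c₀, hc₀, hT, ⟨eF⟩⟩ := S0134.result S F (isTorsion_of_nsmul_id (Fact.out : p.Prime).pos hF)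
  let c := c₀.extend eF.hom
  let hc : IsColimit c := IsColimit.extendIso eF.hom hc₀
  haveI := EtLC12.QcqsAcyclic.preservesColimitsOfShape_HF S (n + 1) J
  obtain ⟨j, y, rfl⟩ := Concrete.isColimit_exists_rep _ (isColimitOfPreserves (EtCoh.HF S (n + 1)) hc) x
  obtain ⟨N, hN, hN0⟩ := exists_killedBy S (hT j)
  let m : T.obj j ⟶ T.obj j := p • 𝟙 (T.obj j)
  have hcp : p • 𝟙 (cokernel m) = 0 := by
    rw [← cancel_epi (cokernel.π m), comp_zero, Preadditive.comp_nsmul, Category.comp_id]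
    have := cokernel.condition m
    rwa [Preadditive.nsmul_comp, Category.id_comp] at this
  have hcc := (S0131.result m N hN ((killedBy_iff_nsmul _ _).2 hN0) ((killedBy_iff_nsmul _ _).2 hN0) (hT j) (hT j)).2
  let d : cokernel m ⟶ F := cokernel.desc m (c.ι.app j) (by
    rw [Preadditive.nsmul_comp, Category.id_comp, ← Category.comp_id (c.ι.app j)]
    refine Eq.trans (Preadditive.comp_nsmul ..).symm ?_
    exact (congrArg (c.ι.app j ≫ ·) hF).trans comp_zero)
  obtain ⟨c', hc'⟩ : ∃ c', ∀ (Ω : Type u) [Field Ω] [IsSepClosed Ω] (ξ : Spec (CommRingCat.of Ω) ⟶ S),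
      Finite ((EtCoh.stalk ξ).obj (cokernel m)) ∧ Nat.card ((EtCoh.stalk ξ).obj (cokernel m)) ≤ c' := by
    let ξ₀ : Spec (CommRingCat.of (SeparableClosure K)) ⟶ S :=
      Spec.map (CommRingCat.ofHom (algebraMap K (SeparableClosure K)))
    haveI := finite_stalk_of_isConstructible hcc ξ₀
    refine ⟨Nat.card ((EtCoh.stalk ξ₀).obj (cokernel m)), fun Ω _ _ ξ => ?_⟩
    obtain ⟨e⟩ := nonempty_stalk_equiv (cokernel m) ξ₀ ξ (base_eq K _ _)
    exact ⟨Finite.of_equiv _ e, (Nat.card_congr e).ge⟩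
  have h0 := eq_zero_of_finite_stalk c' K hK (cokernel m) hcp hc'
    (EtLimit.hmap (cokernel.π m) (n + 1) y)
  show EtLimit.hmap (c.ι.app j) (n + 1) y = 0
  rw [← cokernel.π_desc m (c.ι.app j) _, ← EtLimit.hmap_comp]
  exact (congrArg (EtLimit.hmap d (n + 1)) h0).trans (map_zero _)

/-- Vanishing for sheaves killed by a power of `p`. -/
theorem eq_zero_of_killed_pow (hK : CoprimeVanish p n K) : ∀ (m : ℕ) (F : EtCoh.Ab S), p ^ m • 𝟙 F = 0 →
    ∀ x : EtCoh.H S F (n + 1), x = 0 := by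
  intro m
  induction m with
  | zero =>
    intro F hF x
    have := comp_eq_zero_of_killed x hF
    rwa [pow_zero, one_nsmul] at this
  | succ m ih =>
    intro F hF x
    let f : F ⟶ F := p • 𝟙 F
    let T := ShortComplex.mk (kernel.ι f) (Abelian.factorThruImage f) (by
      rw [← cancel_mono (Abelian.image.ι f), Category.assoc, Abelian.image.fac, kernel.condition, zero_comp])
    have hfac : T.g ≫ Abelian.image.ι f = f := Abelian.image.fac f
    have hT : T.ShortExact :=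
      { exact := ShortComplex.exact_of_f_is_kernel _ (KernelFork.IsLimit.ofι' _ _ fun {A} k hk =>
          ⟨kernel.lift f k (by rw [← hfac, ← Category.assoc, hk, zero_comp]), kernel.lift_ι _ _ _⟩)
        mono_f := inferInstanceAs (Mono (kernel.ι f))
        epi_g := inferInstanceAs (Epi (Abelian.factorThruImage f)) }
    have h1 : p • 𝟙 T.X₁ = 0 := by
      rw [← cancel_mono T.f, zero_comp, Preadditive.nsmul_comp, Category.id_comp, ← Category.comp_id T.f,
        ← Preadditive.comp_nsmul]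
      exact kernel.condition f
    have h3 : p ^ m • 𝟙 T.X₃ = 0 := by
      rw [← cancel_epi T.g, comp_zero, Preadditive.comp_nsmul, Category.comp_id,
        ← cancel_mono (Abelian.image.ι f), zero_comp, Preadditive.nsmul_comp]
      refine (congrArg (p ^ m • ·) hfac).trans ?_
      show p ^ m • (p • 𝟙 F) = 0
      rw [← mul_smul, ← pow_succ, hF]
    obtain ⟨z, rfl⟩ := Ext.covariant_sequence_exact₂ _ hT x (ih T.X₃ h3 _)
    have hz : z = 0 := eq_zero_of_killed hK T.X₁ h1 z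
    rw [hz, Ext.zero_comp]

/-- Vanishing in all higher degrees. -/
theorem eq_zero_of_killed_high (hK : CoprimeVanish p n K) : ∀ (d : ℕ) (m : ℕ) (F : EtCoh.Ab S),
    p ^ m • 𝟙 F = 0 → ∀ x : EtCoh.H S F (n + 1 + d), x = 0 := by
  intro d
  induction d with
  | zero => exact eq_zero_of_killed_pow hK
  | succ d ih =>
    intro m F hF x
    obtain ⟨L, _, _, _, _, hL⟩ := exists_killing_field F (n + 1 + d) x
    let π := pr K L
    haveI : (EtCoh.pull π).Additive := (EtCoh.pullPushAdj π).left_adjoint_additive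
    haveI : (EtCoh.push π).Additive := (EtCoh.pullPushAdj π).right_adjoint_additive
    haveI := mono_unit L F
    let T := ShortComplex.mk ((EtCoh.pullPushAdj π).unit.app F) (cokernel.π _) (cokernel.condition _)
    have hT : T.ShortExact := { exact := ShortComplex.exact_of_g_is_cokernel _ (cokernelIsCokernel _) }
    have h3 : p ^ m • 𝟙 T.X₃ = 0 := nsmul_cokernel _ (nsmul_map (EtCoh.push π) (nsmul_map (EtCoh.pull π) hF))
    have hx : x.comp (Ext.mk₀ T.f) (add_zero _) = 0 :=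
      unit_comp_eq_zero L F _ x ((hpull_eq_zero_iff L F _ x).2 hL)
    obtain ⟨z, rfl⟩ := Ext.covariant_sequence_exact₁ _ hT x hx (rfl : n + 1 + d + 1 = _)
    rw [ih m T.X₃ h3 z, Ext.zero_comp]

/-- Constant coefficients bound the `p`-cohomological dimension. -/
theorem cd_le (hK : CoprimeVanish p n K) (F : EtCoh.Ab S) (hF : EtCoh.IsTorsion F) {q : ℕ} (hq : n < q)
    (x : EtCoh.H S F q) {b : ℕ} (hx : p ^ b • x = 0) : x = 0 := by
  obtain ⟨G, N, f, y, hN, hGN, rfl⟩ := exists_bounded hF q x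
  obtain ⟨a, r, hr, rfl⟩ := Nat.exists_eq_pow_mul_and_not_dvd hN.ne' p (Fact.out : p.Prime).ne_one
  have hco : Nat.Coprime r (p ^ b) := Nat.Coprime.pow_right _ (((Fact.out : p.Prime).coprime_iff_not_dvd.2 hr).symm)
  obtain ⟨s, hs⟩ : ∃ s, p ^ b ∣ r * s + (p ^ b - 1) := by
    obtain hb | hb := Nat.eq_zero_or_pos b
    · exact ⟨0, by simp [hb]⟩
    obtain ⟨s, -, hs⟩ := Nat.exists_mul_mod_eq_one_of_coprime hco (Nat.one_lt_pow hb.ne' (Fact.out : p.Prime).one_lt)
    refine ⟨s, Nat.dvd_of_mod_eq_zero ?_⟩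
    rw [Nat.add_mod, hs, Nat.add_mod_mod, Nat.add_sub_cancel' (Nat.one_le_pow _ _ (Fact.out : p.Prime).pos), Nat.mod_self]
  let e : G ⟶ kernel (p ^ a • 𝟙 G) := kernel.lift _ ((r * s) • 𝟙 G) (by
    rw [Preadditive.comp_nsmul, Category.comp_id, ← mul_smul, ← mul_assoc, mul_comm _ s, mul_smul, hGN, smul_zero])
  have hk : p ^ a • 𝟙 (kernel (p ^ a • 𝟙 G)) = 0 := by
    rw [← cancel_mono (kernel.ι (p ^ a • 𝟙 G)), zero_comp, Preadditive.nsmul_comp, Category.id_comp,
      ← Category.comp_id (kernel.ι (p ^ a • 𝟙 G)), ← Preadditive.comp_nsmul]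
    exact kernel.condition _
  obtain ⟨d, rfl⟩ := Nat.exists_eq_add_of_le hq
  have h0 := eq_zero_of_killed_high hK d a _ hk (y.comp (Ext.mk₀ e) (add_zero _))
  have h1 : (r * s) • y.comp (Ext.mk₀ f) (add_zero _) = 0 := by
    rw [← nsmul_comp_mk₀, nsmul_eq_comp, show (r * s) • 𝟙 G = e ≫ kernel.ι _ from (kernel.lift_ι _ _ _).symm,
      ← Ext.mk₀_comp_mk₀, ← Ext.comp_assoc_of_third_deg_zero, h0, Ext.zero_comp, Ext.zero_comp]
  obtain ⟨t, ht⟩ := hs
  have h2 : (r * s + (p ^ b - 1)) • y.comp (Ext.mk₀ f) (add_zero _) = 0 := by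
    rw [ht, mul_comm, mul_smul, hx, smul_zero]
  rw [add_smul, h1, zero_add] at h2
  have h3 : (p ^ b - 1 + 1) • y.comp (Ext.mk₀ f) (add_zero _) = y.comp (Ext.mk₀ f) (add_zero _) := by
    rw [succ_nsmul, h2, zero_add]
  rw [← h3, Nat.sub_add_cancel (Nat.one_le_pow _ _ (Fact.out : p.Prime).pos), hx]

end Groth.Agent.GalCd13
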