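import Groth.Agent.GalCd13.Primary
import Groth.Agent.CSALib.CyclicNorm
import Groth.Agent.CSALib.BaseChange

/-!
# Fields with trivial Brauer groups
-/

set_option autoImplicit false
set_option linter.style.haveILetI false
set_option backward.isDefEq.respectTransparency false
set_option backward.isDefEq.respectTransparency.types false
set_option maxHeartbeats 1000000

universe u

open CategoryTheory CategoryTheory.Limits AlgebraicGeometry Opposite CategoryTheory.Abelian

namespace Groth.Agent.GalCd13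

open Groth.Agent.EtFound Groth.Agent.EtTrace

/-- Without division algebras every element is a norm from a cyclic extension. -/
theorem exists_norm_of_brauer {E L : Type u} [Field E] [Field L] [Algebra E L] [FiniteDimensional E L] [IsGalois E L]
    (hBr : ∀ (D : Type u) [DivisionRing D] [Algebra E D] [Algebra.IsCentral E D] [FiniteDimensional E D],
      Module.finrank E D = 1)
    {σ : L ≃ₐ[E] L} (hσ : ∀ τ : L ≃ₐ[E] L, τ ∈ Subgroup.zpowers σ) {x : E} (hx : x ≠ 0) :
    ∃ y : L, Algebra.norm E y = x := by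
  obtain ⟨B, hB⟩ := CSALib.exists_isCyclicAlg hσ (Units.mk0 x hx)
  refine (CSALib.similar_field_iff_norm hσ hB).1 ?_
  obtain ⟨_, _, ι, y, hu, -, h, hd⟩ := CSALib.isCyclicAlg_data hB
  obtain ⟨_, _, -⟩ := CSALib.central_simple hσ h hu hd
  obtain ⟨n, hn, D, _, _, hc, hf, ⟨e⟩⟩ := CSALib.exists_division E B
  haveI : FiniteDimensional E D := hf
  haveI := hc
  have hsur : Function.Surjective (algebraMap E D) := fun z => by
    have h : (⊥ : Subalgebra E D) = ⊤ := Subalgebra.bot_eq_top_of_finrank_eq_one (hBr D)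
    exact Algebra.mem_bot.1 (h.symm ▸ Algebra.mem_top : z ∈ (⊥ : Subalgebra E D))
  let g : E ≃ₐ[E] D := AlgEquiv.ofBijective (Algebra.ofId E D) ⟨(algebraMap E D).injective, hsur⟩
  exact CSALib.similar_of_algEquiv_matrix hn.out (e.trans g.symm.mapMatrix)

variable {K : Type u} [Field K]

theorem normSurj_of_brauer
    (hBr : ∀ (K' : Type u) [Field K'] [Algebra K K'] [FiniteDimensional K K']
      (D : Type u) [DivisionRing D] [Algebra K' D] [Algebra.IsCentral K' D] [FiniteDimensional K' D],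
      Module.finrank K' D = 1) (ℓ : ℕ) [Fact ℓ.Prime] : NormSurj ℓ K := by
  intro E L _ _ _ _ _ _ _ _ _ _ _ hd x hx
  haveI : FiniteDimensional E L := Module.Finite.of_restrictScalars_finite K E L
  haveI : IsCyclic (L ≃ₐ[E] L) := isCyclic_of_prime_card ((IsGalois.card_aut_eq_finrank E L).trans hd)
  obtain ⟨σ, hσ⟩ := IsCyclic.exists_generator (α := L ≃ₐ[E] L)
  exact exists_norm_of_brauer (fun D _ _ _ _ => hBr E D) hσ hx

/-- Torsion sheaves have no cohomology above degree one when norms are surjective. -/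
theorem subsingleton_H_torsion (hN : ∀ ℓ : ℕ, ℓ.Prime → NormSurj ℓ K) {F : EtCoh.Ab (Spec (CommRingCat.of K))}
    (hF : EtCoh.IsTorsion F) {q : ℕ} (hq : 2 ≤ q) : Subsingleton (EtCoh.H (Spec (CommRingCat.of K)) F q) := by
  refine subsingleton_of_forall_eq 0 fun x => ?_
  obtain ⟨N, hN0, hNx⟩ := exists_nsmul_H_field F (by omega : 1 ≤ q) x
  refine eq_zero_of_primary (fun ℓ hℓ b y hy => ?_) N hN0 x hNx
  haveI : Fact ℓ.Prime := ⟨hℓ⟩
  by_cases hℓ0 : (ℓ : K) = 0
  · exact cd_le (coprimeVanish_of_charP hℓ0) F hF hq y hy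
  · exact cd_le (coprimeVanish_of_normSurj (hN ℓ hℓ) hℓ0) F hF hq y hy

/-- `Gm` has no higher cohomology when norms are surjective. -/
theorem subsingleton_H_Gm (hN : ∀ ℓ : ℕ, ℓ.Prime → NormSurj ℓ K) {q : ℕ} (hq : 1 ≤ q) :
    Subsingleton (EtCoh.H (Spec (CommRingCat.of K)) (EtCoh.Gm (Spec (CommRingCat.of K))) q) := by
  refine subsingleton_of_forall_eq 0 fun x => ?_
  obtain ⟨N, hN0, hNx⟩ := exists_nsmul_H_field _ hq x
  refine eq_zero_of_primary (fun ℓ hℓ b y hy => ?_) N hN0 x hNx
  haveI : Fact ℓ.Prime := ⟨hℓ⟩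
  obtain rfl | rfl | hq3 : q = 1 ∨ q = 2 ∨ 2 < q := by omega
  · haveI : Nonempty (Spec (CommRingCat.of K)) := inferInstanceAs (Nonempty (PrimeSpectrum K))
    haveI : Subsingleton (Spec (CommRingCat.of K)) := inferInstanceAs (Subsingleton (PrimeSpectrum K))
    haveI := subsingleton_H1_Gm_point (Spec (CommRingCat.of K))
    exact Subsingleton.elim _ _
  · exact eq_zero_Gm_primary (hN ℓ hℓ) y hy
  · refine EtTrace.eq_zero_of_pow_smul_eq_zero (n := 1) hℓ.pos (fun G hG j hj z _ => ?_) _ hq3 y hy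
    exact @Subsingleton.elim _ (subsingleton_H_torsion hN hG hj) _ _

end Groth.Agent.GalCd13
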