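import Groth.Agent.GalCd13.GmNorm
import Groth.Agent.GalCd13.Devissage
import Groth.Agent.EtTrace.Kummer
import Groth.Agent.EtLC12.MuConst
import Groth.Agent.EtLC12.ArtinSchreier
import Groth.Agent.S0108
import Groth.Agent.S0109
import Mathlib.RingTheory.AdjoinRoot
import Mathlib.RingTheory.Polynomial.Cyclotomic.Roots
import Mathlib.FieldTheory.SeparableDegree

/-!
# Vanishing of `H²(ℤ/p)` from surjective norms and in characteristic `p`
-/

set_option autoImplicit false
set_option linter.style.haveILetI false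
set_option backward.isDefEq.respectTransparency false
set_option backward.isDefEq.respectTransparency.types false
set_option maxHeartbeats 1000000

universe u

open CategoryTheory CategoryTheory.Limits AlgebraicGeometry Opposite CategoryTheory.Abelian

namespace Groth.Agent.GalCd13

open Groth.Agent.EtFound Groth.Agent.EtTrace

variable {p : ℕ} [Fact p.Prime]

/-- Degree two classes of `Gm` that are `p`-primary vanish when norms are surjective. -/
theorem eq_zero_Gm_primary {K : Type u} [Field K] (hN : NormSurj p K)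
    (x : EtCoh.H (Spec (CommRingCat.of K)) (EtCoh.Gm (Spec (CommRingCat.of K))) 2) {b : ℕ} (hx : p ^ b • x = 0) :
    x = 0 := by
  obtain ⟨L, _, _, _, _, hL⟩ := exists_killing_field (EtCoh.Gm (Spec (CommRingCat.of K))) 1 x
  let A := SeparableClosure L
  haveI : Algebra.IsSeparable K A := Algebra.IsSeparable.trans K L A
  haveI : IsSepClosure K A := ⟨inferInstance, inferInstance⟩
  let N := IntermediateField.normalClosure K L A
  haveI : IsGalois K N := IsGalois.normalClosure K L A
  let φ : L →ₐ[K] N := (IntermediateField.inclusion (IsScalarTower.toAlgHom K L A).fieldRange_le_normalClosure).comp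
    (IsScalarTower.toAlgHom K L A).rangeRestrict
  let P : Sylow p Gal(N/K) := default
  let E := IntermediateField.fixedField (P : Subgroup Gal(N/K))
  haveI : IsGalois E N := IsGalois.tower_top_of_isGalois K E N
  have hE : ¬ p ∣ Module.finrank K E := by
    have h1 := Module.finrank_mul_finrank K E N
    rw [IntermediateField.finrank_fixedField_eq_card, ← IsGalois.card_aut_eq_finrank K N,
      ← (P : Subgroup Gal(N/K)).index_mul_card] at h1
    rw [Nat.eq_of_mul_eq_mul_right Nat.card_pos h1]
    exact P.not_dvd_index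
  obtain ⟨e, he⟩ := P.isPGroup'.exists_card_eq
  refine eq_zero_of_coprime E x ((Nat.Coprime.pow_left b ((Fact.out : p.Prime).coprime_iff_not_dvd.2 hE)).symm) hx
    ((hpull_eq_zero_iff E _ 2 x).2 ?_)
  refine eq_zero_Gm_of_pow hN e E N (by rw [IntermediateField.finrank_fixedField_eq_card, he]) _ ?_
  rw [Ext.mk₀_comp_mk₀_assoc, freeMap_aug, ← freeMap_aug (homOf φ), ← Ext.mk₀_comp_mk₀_assoc, hL, Ext.comp_zero]

/-- `H²(μ_p)` vanishes when norms are surjective. -/
theorem eq_zero_mu {K : Type u} [Field K] (hN : NormSurj p K) (hp : (p : K) ≠ 0)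
    (z : EtCoh.H (Spec (CommRingCat.of K)) (EtCoh.mu (Spec (CommRingCat.of K)) p) 2) : z = 0 := by
  let X := Spec (CommRingCat.of K)
  haveI : Epi (EtCoh.powMap X p) := S0108.result X p (by
    have h := (isUnit_iff_ne_zero.2 hp).map (Scheme.ΓSpecIso (CommRingCat.of K)).inv.hom
    rwa [map_natCast] at h)
  let T := ShortComplex.mk (EtCoh.muι X p) (EtCoh.powMap X p) (kernel.condition _)
  have hT : T.ShortExact :=
    { exact := ShortComplex.exact_of_f_is_kernel _ (kernelIsKernel _)
      mono_f := inferInstanceAs (Mono (kernel.ι _))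
      epi_g := ‹_› }
  have hz : z.comp (Ext.mk₀ T.f) (add_zero 2) = 0 := by
    refine eq_zero_Gm_primary (p := p) hN _ (b := 1) ?_
    rw [pow_one]
    exact (range_mu 2 _).1 ⟨z, rfl⟩
  obtain ⟨w, rfl⟩ := Ext.covariant_sequence_exact₁ _ hT z hz (rfl : 1 + 1 = 2)
  haveI : Nonempty X := inferInstanceAs (Nonempty (Spec (CommRingCat.of K)))
  haveI : Subsingleton X := inferInstanceAs (Subsingleton (Spec (CommRingCat.of K)))
  haveI := subsingleton_H1_Gm_point X
  rw [show w = 0 from Subsingleton.elim (α := EtCoh.H X (EtCoh.Gm X) 1) _ _, Ext.zero_comp]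

/-- `H²(ℤ/p)` vanishes when norms are surjective. -/
theorem eq_zero_const_of_normSurj {K : Type u} [Field K] (hN : NormSurj p K) (hp : (p : K) ≠ 0)
    (x : EtCoh.H (Spec (CommRingCat.of K)) (EtCoh.const (Spec (CommRingCat.of K)) (ZMod p)) 2) : x = 0 := by
  haveI : NeZero p := ⟨(Fact.out : p.Prime).ne_zero⟩
  haveI : NeZero (p : K) := ⟨hp⟩
  have hdeg : (Polynomial.cyclotomic p K).natDegree = p - 1 := by
    rw [Polynomial.natDegree_cyclotomic, Nat.totient_prime Fact.out]
  obtain ⟨g, hg, hgc⟩ := Polynomial.exists_irreducible_of_natDegree_pos (f := Polynomial.cyclotomic p K) (by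
    rw [hdeg]; have := (Fact.out : p.Prime).two_le; omega)
  haveI : Fact (Irreducible g) := ⟨hg⟩
  let E := AdjoinRoot g
  haveI : FiniteDimensional K E := (AdjoinRoot.powerBasis hg.ne_zero).finite
  have hd : Module.finrank K E ≤ p - 1 := by
    rw [(AdjoinRoot.powerBasis hg.ne_zero).finrank, AdjoinRoot.powerBasis_dim, ← hdeg]
    exact Polynomial.natDegree_le_of_dvd hgc (Polynomial.cyclotomic_ne_zero p K)
  have hsep : IsSeparable K (AdjoinRoot.root g) :=
    (Polynomial.separable_cyclotomic p K).of_dvd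
      ((minpoly.dvd K _ (AdjoinRoot.aeval_eq g ▸ AdjoinRoot.mk_self)).trans hgc)
  haveI : Algebra.IsSeparable K E := by
    haveI := (IntermediateField.isSeparable_adjoin_simple_iff_isSeparable K E).2 hsep
    have htop : IntermediateField.adjoin K ({AdjoinRoot.root g} : Set E) = ⊤ :=
      IntermediateField.toSubalgebra_injective (by
        rw [IntermediateField.adjoin_simple_toSubalgebra_of_isAlgebraic (IsIntegral.of_finite K _).isAlgebraic,
          IntermediateField.top_toSubalgebra]
        exact AdjoinRoot.adjoinRoot_eq_top)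
    exact AlgEquiv.Algebra.isSeparable ((IntermediateField.equivOfEq htop).trans IntermediateField.topEquiv)
  have hpos : 0 < Module.finrank K E := Module.finrank_pos
  have hE : ¬ p ∣ Module.finrank K E := fun h => by
    have := Nat.le_of_dvd hpos h
    omega
  have hpE : (p : E) ≠ 0 := by
    rw [← map_natCast (algebraMap K E)]
    exact (map_ne_zero _).2 hp
  have hu : IsUnit (p : Γ(Spec (CommRingCat.of E), ⊤)) := by
    have h := (isUnit_iff_ne_zero.2 hpE).map (Scheme.ΓSpecIso (CommRingCat.of E)).inv.hom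
    rwa [map_natCast] at h
  have hζ0 : Polynomial.aeval (AdjoinRoot.root g) (Polynomial.cyclotomic p ℤ) = 0 := by
    obtain ⟨q, hq⟩ := hgc
    rw [← Polynomial.aeval_map_algebraMap K, Polynomial.map_cyclotomic, hq, map_mul, AdjoinRoot.aeval_eq,
      AdjoinRoot.mk_self, zero_mul]
  obtain ⟨a⟩ := EtLC12.MuConst.nonempty_mu_iso_const hu
    ((Scheme.ΓSpecIso (CommRingCat.of E)).inv (AdjoinRoot.root g)) (by
      show Polynomial.aeval ((Scheme.ΓSpecIso (CommRingCat.of E)).inv.hom.toIntAlgHom (AdjoinRoot.root g)) _ = 0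
      rw [Polynomial.aeval_algHom_apply, hζ0, map_zero])
  refine eq_zero_of_coprime E x (((Fact.out : p.Prime).coprime_iff_not_dvd.2 hE).symm)
    (comp_eq_zero_of_killed x (nsmul_const_zmod _ p)) ?_
  refine (postcomp_bijective ((EtCore.pullConst (pr K E) (ZMod p)).hom ≫ a.inv) 2).1 ?_
  refine (eq_zero_mu (hN.extension E) hpE _).trans ?_
  simp

/-- `H²(ℤ/p)` vanishes in characteristic `p`. -/
theorem eq_zero_const_of_charP {K : Type u} [Field K] (hp : (p : K) = 0)
    (x : EtCoh.H (Spec (CommRingCat.of K)) (EtCoh.const (Spec (CommRingCat.of K)) (ZMod p)) 2) : x = 0 := by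
  let X := Spec (CommRingCat.of K)
  have h0 : (p : Γ(X, ⊤)) = 0 := by
    rw [← map_natCast (Scheme.ΓSpecIso (CommRingCat.of K)).inv.hom, hp, map_zero]
  let T := ShortComplex.mk _ _ (kernel.condition (EtLC12.ArtinSchreier.as p h0))
  have hT : T.ShortExact := EtLC12.ArtinSchreier.shortExact_kernel p h0
  haveI := EtLC12.ArtinSchreier.isIso_constToKer (X := X) p h0
  refine (postcomp_bijective (EtLC12.ArtinSchreier.constToKer p h0) 2).1 ?_
  simp only [Ext.zero_comp]
  haveI := S0109.result X 2 (by omega)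
  haveI := S0109.result X 1 le_rfl
  obtain ⟨w, hw⟩ := Ext.covariant_sequence_exact₁ _ hT _
    (Subsingleton.elim (α := EtCoh.H X (EtCoh.Ga X) 2) _ 0) (rfl : 1 + 1 = 2)
  refine Eq.trans hw.symm ?_
  rw [show w = 0 from Subsingleton.elim (α := EtCoh.H X (EtCoh.Ga X) 1) _ _, Ext.zero_comp]

variable {K : Type u} [Field K]

theorem coprimeVanish_of_normSurj (hN : NormSurj p K) (hp : (p : K) ≠ 0) : CoprimeVanish p 1 K :=
  fun M _ _ _ _ _ x => eq_zero_const_of_normSurj (hN.extension M) (by
    rw [← map_natCast (algebraMap K M)]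
    exact (map_ne_zero _).2 hp) x

theorem coprimeVanish_of_charP (hp : (p : K) = 0) : CoprimeVanish p 1 K :=
  fun M _ _ _ _ _ x => eq_zero_const_of_charP (by rw [← map_natCast (algebraMap K M), hp, map_zero]) x

end Groth.Agent.GalCd13
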