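import Groth.Agent.GalCd13.InjAction
import Groth.Agent.EtTrace.Coh

/-!
# Classes of degree two killed by cyclic extensions
-/

set_option autoImplicit false
set_option linter.style.haveILetI false
set_option backward.isDefEq.respectTransparency false
set_option backward.isDefEq.respectTransparency.types false
set_option maxHeartbeats 1000000

universe u

open CategoryTheory CategoryTheory.Limits AlgebraicGeometry Opposite CategoryTheory.Abelian

namespace Groth.Agent.GalCd13

open Groth.Agent.EtFound Groth.Agent.EtTrace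

variable {K : Type u} [Field K]

local notation "S" => Spec (CommRingCat.of K)

variable {E L : Type u} [Field E] [Field L] [Algebra K E] [Algebra K L] [Algebra E L] [IsScalarTower K E L]
  [FiniteDimensional K E] [FiniteDimensional K L] [Algebra.IsSeparable K E] [Algebra.IsSeparable K L]

variable (K E L) in
/-- The covering map of an extension. -/
noncomputable def cover : obj K L ⟶ obj K E := homOf (IsScalarTower.toAlgHom K E L)

variable (K) in
/-- The automorphism of the étale object of an automorphism. -/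
noncomputable def act (g : L ≃ₐ[E] L) : End (obj K L) := homOf (g.toAlgHom.restrictScalars K)

theorem homOf_comp {M N P : Type u} [Field M] [Field N] [Field P] [Algebra K M] [Algebra K N] [Algebra K P]
    [FiniteDimensional K M] [FiniteDimensional K N] [FiniteDimensional K P] [Algebra.IsSeparable K M]
    [Algebra.IsSeparable K N] [Algebra.IsSeparable K P] (φ : N →ₐ[K] P) (ψ : M →ₐ[K] N) :
    homOf φ ≫ homOf ψ = homOf (φ.comp ψ) := by
  apply MorphismProperty.Over.Hom.ext
  show Spec.map _ ≫ Spec.map _ = Spec.map _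
  rw [← Spec.map_comp]
  rfl

omit [Algebra K E] [IsScalarTower K E L] [FiniteDimensional K E] [Algebra.IsSeparable K E] in
theorem homOf_id : homOf (AlgHom.id K L) = 𝟙 (obj K L) := by
  apply MorphismProperty.Over.Hom.ext
  show Spec.map (CommRingCat.ofHom (RingHom.id L)) = 𝟙 _
  rw [CommRingCat.ofHom_id, Spec.map_id]

theorem act_cover (g : L ≃ₐ[E] L) : (act K g : obj K L ⟶ obj K L) ≫ cover K E L = cover K E L := by
  rw [cover, act, homOf_comp]
  exact congrArg homOf (AlgHom.ext fun x => g.commutes x)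

omit [FiniteDimensional K E] [Algebra.IsSeparable K E] in
theorem act_one : act K (1 : L ≃ₐ[E] L) = 1 := by
  refine Eq.trans ?_ (homOf_id (K := K) (L := L))
  exact congrArg homOf (AlgHom.ext fun x => rfl)

omit [FiniteDimensional K E] [Algebra.IsSeparable K E] in
theorem act_mul (g h : L ≃ₐ[E] L) : act K (g * h) = (act K g : obj K L ⟶ obj K L) ≫ act K h := by
  rw [act, act, act, homOf_comp]
  exact congrArg homOf (AlgHom.ext fun x => rfl)

theorem act_pow (g : L ≃ₐ[E] L) (i : ℕ) : act K (g ^ i) = act K g ^ i := by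
  induction i with
  | zero => rw [pow_zero, pow_zero, act_one]
  | succ i ih => rw [pow_succ', act_mul, ih, pow_succ]; rfl

omit [FiniteDimensional K E] [Algebra.IsSeparable K E] in
/-- Automorphisms act freely on points. -/
theorem act_free (g : L ≃ₐ[E] L) {T : (S).Etale} (h : T ⟶ obj K L) (v : T.left)
    (hg : h ≫ (act K g : obj K L ⟶ obj K L) = h) : g = 1 := by
  let κ := T.left.residueField v
  let φ : CommRingCat.of L ⟶ κ := Spec.preimage (T.left.fromSpecResidueField v ≫ h.left)
  have hh : Spec.map (CommRingCat.ofHom (g.toAlgHom.restrictScalars K : L →+* L) ≫ φ) = Spec.map φ := by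
    rw [Spec.map_comp]
    simp only [φ, Spec.map_preimage]
    rw [Category.assoc]
    exact congrArg (fun m : T ⟶ obj K L => T.left.fromSpecResidueField v ≫ m.left) hg
  have he := Spec.map_injective hh
  refine AlgEquiv.ext fun x => ?_
  exact φ.hom.injective (RingHom.congr_fun (congrArg CommRingCat.Hom.hom he) x)

/-- Two points over the same point differ locally by an automorphism. -/
theorem exists_nhd_act [IsGalois E L] {V : (S).Etale} (g₁ g₂ : V ⟶ obj K L)
    (h : g₁ ≫ cover K E L = g₂ ≫ cover K E L) (v : V.left) :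
    ∃ (U : (S).Etale) (i : U ⟶ V) (u : U.left), i.left.base u = v ∧
      ∃ g : L ≃ₐ[E] L, i ≫ g₂ = (i ≫ g₁) ≫ (act K g : obj K L ⟶ obj K L) := by
  haveI : FiniteDimensional E L := Module.Finite.of_restrictScalars_finite K E L
  let κ := V.left.residueField v
  let φ : CommRingCat.of L ⟶ κ := Spec.preimage (V.left.fromSpecResidueField v ≫ g₁.left)
  let φ' : CommRingCat.of L ⟶ κ := Spec.preimage (V.left.fromSpecResidueField v ≫ g₂.left)
  have hbase : φ.hom.comp (algebraMap E L) = φ'.hom.comp (algebraMap E L) := by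
    have h0 : g₁.left ≫ (cover K E L).left = g₂.left ≫ (cover K E L).left := congrArg (fun m => m.left) h
    have h : Spec.map (CommRingCat.ofHom (algebraMap E L) ≫ φ) = Spec.map (CommRingCat.ofHom (algebraMap E L) ≫ φ') := by
      simp only [Spec.map_comp, φ, φ', Spec.map_preimage, Category.assoc]
      exact congrArg (V.left.fromSpecResidueField v ≫ ·) h0
    exact congrArg CommRingCat.Hom.hom (Spec.map_injective h)
  letI : Algebra L κ := φ.hom.toAlgebra
  letI : Algebra E κ := (φ.hom.comp (algebraMap E L)).toAlgebra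
  haveI : IsScalarTower E L κ := IsScalarTower.of_algebraMap_eq fun _ => rfl
  let ψ : L →ₐ[E] κ := { φ'.hom with commutes' := fun x => (RingHom.congr_fun hbase x).symm }
  let g : L ≃ₐ[E] L := Normal.algHomEquivAut E κ L ψ
  have hg : ∀ m, φ'.hom m = φ.hom (g m) := fun m =>
    (AlgHom.congr_fun ((Normal.algHomEquivAut E κ L).symm_apply_apply ψ) m).symm
  obtain ⟨U, i, u, hu, hU⟩ := exists_common_nhd (J := PUnit.{1}) (fun _ => g₂) (fun _ => g₁ ≫ (act K g : obj K L ⟶ obj K L)) v
    (fun _ => by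
      show V.left.fromSpecResidueField v ≫ g₂.left = V.left.fromSpecResidueField v ≫ g₁.left ≫ _
      rw [← Category.assoc]
      have hφ : V.left.fromSpecResidueField v ≫ g₁.left = Spec.map φ := (Spec.map_preimage _).symm
      have hφ' : V.left.fromSpecResidueField v ≫ g₂.left = Spec.map φ' := (Spec.map_preimage _).symm
      rw [hφ, hφ', act, homOf_left, ← Spec.map_comp]
      congr 1
      exact CommRingCat.hom_ext (RingHom.ext fun x => hg x))
  exact ⟨U, i, u, hu, g, (hU PUnit.unit).trans (Category.assoc _ _ _).symm⟩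

/-- Restriction to the cover is injective. -/
theorem cover_cancel {F : EtCoh.Ab S} {ψ ψ' : freeOn (obj K E) ⟶ F}
    (h : freeMap (cover K E L) ≫ ψ = freeMap (cover K E L) ≫ ψ') : ψ = ψ' := by
  haveI : Subsingleton (obj K E).left := inferInstanceAs (Subsingleton (Spec (CommRingCat.of E)))
  refine free_ext ((isSheafFor_of_covers F (fun _ : PUnit.{1} => obj K L) (fun _ => cover K E L)
    (fun b => ⟨PUnit.unit, surjective_left (cover K E L) b⟩)).isSeparatedFor.ext fun V f hf => ?_)
  cases hf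
  exact ((freeVal_freeMap_comp _ _).symm.trans (congrArg freeVal h)).trans (freeVal_freeMap_comp _ _)

/-- Galois descent of invariant sections. -/
theorem exists_descend [IsGalois E L] {F : EtCoh.Ab S} (ψ : freeOn (obj K L) ⟶ F)
    (h : ∀ g : L ≃ₐ[E] L, freeMap (act K g : obj K L ⟶ obj K L) ≫ ψ = ψ) :
    ∃ ψ₀ : freeOn (obj K E) ⟶ F, freeMap (cover K E L) ≫ ψ₀ = ψ := by
  classical
  haveI : Subsingleton (obj K E).left := inferInstanceAs (Subsingleton (Spec (CommRingCat.of E)))
  let s := freeVal ψ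
  have hcompat : Presieve.FamilyOfElements.Compatible (P := F.obj ⋙ forget AddCommGrpCat.{u + 1})
      (R := Presieve.ofArrows (fun _ : PUnit.{1} => obj K L) (fun _ => cover K E L))
      (fun Z f hf => F.obj.map (eqToHom (by cases hf; rfl) : Z ⟶ obj K L).op s) := by
    intro Y₁ Y₂ V g g' f₁ f₂ h₁ h₂ hw
    cases h₁
    cases h₂
    simp only [eqToHom_refl]
    show F.obj.map g.op (F.obj.map (𝟙 (obj K L)).op s) = F.obj.map g'.op (F.obj.map (𝟙 (obj K L)).op s)
    rw [map_map, map_map, Category.comp_id, Category.comp_id]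
    refine eq_of_cover (A := AddCommGrpCat.{u + 1}) F _ _ ?_
    rw [mem_topology_iff]
    intro v
    obtain ⟨U, i, u, hu, γ, hγ⟩ := exists_nhd_act g g' hw v
    refine ⟨U, i, u, ?_, hu⟩
    show F.obj.map i.op (F.obj.map g.op s) = F.obj.map i.op (F.obj.map g'.op s)
    rw [map_map, map_map, hγ]
    refine Eq.trans ?_ (map_map (F := F) (i ≫ g) (act K γ : obj K L ⟶ obj K L) s)
    refine congrArg (F.obj.map (i ≫ g).op) ?_
    exact ((freeVal_freeMap_comp _ _).symm.trans (congrArg freeVal (h γ))).symm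
  obtain ⟨t₀, ht₀, -⟩ := (isSheafFor_of_covers F (fun _ : PUnit.{1} => obj K L) (fun _ => cover K E L)
    (fun b => ⟨PUnit.unit, surjective_left (cover K E L) b⟩)) _ hcompat
  obtain ⟨ψ₀, hψ₀⟩ := exists_free_hom (W := obj K E) (G := F) t₀
  refine ⟨ψ₀, free_ext ?_⟩
  rw [freeVal_freeMap_comp, hψ₀]
  refine (ht₀ (cover K E L) (Presieve.ofArrows.mk PUnit.unit)).trans ?_
  simp [s]

theorem freeVal_sum {W : (S).Etale} {G : EtCoh.Ab S} {ι : Type*} (t : Finset ι) (ψ : ι → (freeOn W ⟶ G)) :
    freeVal (∑ i ∈ t, ψ i) = ∑ i ∈ t, freeVal (ψ i) :=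
  map_sum (AddMonoidHom.mk' (freeVal (W := W) (G := G)) fun _ _ => rfl) ψ t

theorem freeVal_sub {W : (S).Etale} {G : EtCoh.Ab S} (ψ ψ' : freeOn W ⟶ G) :
    freeVal (ψ - ψ') = freeVal ψ - freeVal ψ' :=
  map_sub (AddMonoidHom.mk' (freeVal (W := W) (G := G)) fun _ _ => rfl) ψ ψ'

/-- The kernel of restriction in degree two along a cyclic extension. -/
theorem eq_zero_of_cyclic [IsGalois E L] (G : EtCoh.Ab S) (σ : L ≃ₐ[E] L)
    (hσ : ∀ g : L ≃ₐ[E] L, g ∈ Submonoid.powers σ) {n : ℕ} (hn : 0 < n) (hσn : orderOf σ = n)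
    (hH : Subsingleton (Ext.{u + 1} (freeOn (obj K L)) G 1))
    (hN : ∀ ψ₀ : freeOn (obj K E) ⟶ G, ∃ g : freeOn (obj K L) ⟶ G,
      ∑ i ∈ Finset.range n, freeMap (act K (σ ^ i) : obj K L ⟶ obj K L) ≫ g = freeMap (cover K E L) ≫ ψ₀)
    (x : Ext.{u + 1} (freeOn (obj K E)) G 2)
    (hx : (Ext.mk₀ (freeMap (cover K E L))).comp x (zero_add 2) = 0) : x = 0 := by
  let R := injectiveResolution G
  let fa := freeMap (cover K E L)
  let p : ℕ → (freeOn (obj K L) ⟶ freeOn (obj K L)) := fun i => freeMap (act K (σ ^ i) : obj K L ⟶ obj K L)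
  let fs := p 1
  have hp : ∀ i, p i ≫ fs = p (i + 1) := fun i => by
    show freeMap _ ≫ freeMap _ = freeMap _
    rw [← freeMap_comp, ← act_mul, ← pow_add]
  have hp' : ∀ i, fs ≫ p i = p (i + 1) := fun i => by
    show freeMap _ ≫ freeMap _ = freeMap _
    rw [← freeMap_comp, ← act_mul, ← pow_add, add_comm]
  have hp0 : p 0 = 𝟙 _ := by
    show freeMap _ = _
    rw [pow_zero, act_one]
    exact freeMap_id _
  have hpn : p n = 𝟙 _ := by
    show freeMap _ = _
    rw [← hσn, pow_orderOf_eq_one, act_one]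
    exact freeMap_id _
  have hsa : fs ≫ fa = fa := by
    show freeMap _ ≫ freeMap _ = freeMap _
    rw [← freeMap_comp, act_cover]
  have hinv : ∀ {F : EtCoh.Ab S} (ψ : freeOn (obj K L) ⟶ F), fs ≫ ψ = ψ →
      ∀ g : L ≃ₐ[E] L, freeMap (act K g : obj K L ⟶ obj K L) ≫ ψ = ψ := by
    intro F ψ hψ g
    obtain ⟨i, rfl⟩ := hσ g
    induction i with
    | zero => exact (congrArg (· ≫ ψ) hp0).trans (Category.id_comp ψ)
    | succ i ih =>
      show p (i + 1) ≫ ψ = ψ
      rw [← hp i, Category.assoc, hψ]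
      exact ih
  obtain ⟨z, hz, rfl⟩ := R.extMk_surjective x 3 rfl
  rw [InjectiveResolution.mk₀_comp_extMk] at hx
  obtain ⟨b, hb⟩ := (R.extMk_eq_zero_iff _ 3 rfl _ 1 rfl).1 hx
  have hb' : (fs ≫ b - b) ≫ R.cocomplex.d 1 2 = 0 := by
    rw [Preadditive.sub_comp, Category.assoc, hb, ← Category.assoc fs, hsa, sub_self]
  obtain ⟨c, hc⟩ := (R.extMk_eq_zero_iff _ 2 rfl hb' 0 rfl).1 (Subsingleton.elim _ _)
  let e := ∑ i ∈ Finset.range n, p i ≫ c
  have he : e ≫ R.cocomplex.d 0 1 = 0 := by
    have h1 : e ≫ R.cocomplex.d 0 1 = ∑ i ∈ Finset.range n, (p (i + 1) ≫ b - p i ≫ b) := by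
      rw [Preadditive.sum_comp]
      refine Finset.sum_congr rfl fun i _ => ?_
      rw [Category.assoc, hc, Preadditive.comp_sub, ← Category.assoc, hp]
    rw [h1, Finset.sum_range_sub (fun i => p i ≫ b), hpn, hp0, sub_self]
  let ι₀ : G ⟶ R.cocomplex.X 0 := R.ι.f 0
  haveI : Mono ι₀ := inferInstanceAs (Mono (R.ι.f 0))
  obtain ⟨e₀, he₀'⟩ := KernelFork.IsLimit.lift' R.isLimitKernelFork e he
  let e₁ : freeOn (obj K L) ⟶ G := e₀
  have he₀ : e₁ ≫ ι₀ = e := he₀'
  have hse : fs ≫ e = e := by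
    have h2 : fs ≫ e - e = ∑ i ∈ Finset.range n, (p (i + 1) ≫ c - p i ≫ c) := by
      rw [Finset.sum_sub_distrib, Preadditive.comp_sum]
      refine congrArg (· - _) (Finset.sum_congr rfl fun i _ => ?_)
      rw [← Category.assoc, hp']
    refine sub_eq_zero.1 (h2.trans ?_)
    rw [Finset.sum_range_sub (fun i => p i ≫ c), hpn, hp0, sub_self]
  obtain ⟨ψ₀, hψ₀⟩ := exists_descend (K := K) (E := E) e₁ (hinv e₁ (by
    rw [← cancel_mono ι₀, Category.assoc, he₀, hse]))
  obtain ⟨g, hg⟩ := hN ψ₀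
  let c' := c - g ≫ ι₀
  have hιd : ι₀ ≫ R.cocomplex.d 0 1 = 0 := R.ι_f_zero_comp_complex_d
  have hc' : c' ≫ R.cocomplex.d 0 1 = fs ≫ b - b := by
    rw [Preadditive.sub_comp, hc, Category.assoc, hιd, comp_zero, sub_zero]
  have hsum : ∑ i ∈ Finset.range n, p i ≫ c' = 0 := by
    have h3 : ∑ i ∈ Finset.range n, p i ≫ c' = e - (∑ i ∈ Finset.range n, p i ≫ g) ≫ ι₀ := by
      rw [Preadditive.sum_comp, ← Finset.sum_sub_distrib]
      refine Finset.sum_congr rfl fun i _ => ?_
      rw [Preadditive.comp_sub, Category.assoc]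
    rw [h3, hg, hψ₀, he₀, sub_self]
  haveI : Injective (R.cocomplex.X 0) := inferInstance
  obtain ⟨a', ha'⟩ := exists_sub_eq_of_sum_eq_zero (R.cocomplex.X 0) (act K σ) hn
    (by rw [← act_pow, ← hσn, pow_orderOf_eq_one, act_one])
    (fun T h v i hi hh => by
      rw [← act_pow] at hh
      by_contra h0
      exact pow_ne_one_of_lt_orderOf h0 (hσn.symm ▸ hi) (act_free (σ ^ i) h v hh))
    (freeVal c') (by
      refine Eq.trans (Finset.sum_congr rfl fun i _ => ?_) ((freeVal_sum _ _).symm.trans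
        ((congrArg freeVal hsum).trans rfl))
      rw [← act_pow]
      exact (freeVal_freeMap_comp _ _).symm)
  obtain ⟨α, hα⟩ := exists_free_hom a'
  have hα' : fs ≫ α - α = c' := by
    refine free_ext ?_
    rw [freeVal_sub, hα]
    refine Eq.trans ?_ ha'
    refine congrArg (· - a') ?_
    show freeVal (freeMap _ ≫ α) = _
    rw [freeVal_freeMap_comp, hα, pow_one]
  obtain ⟨β, hβ⟩ := exists_descend (K := K) (E := E) (b - α ≫ R.cocomplex.d 0 1) (hinv _ (by
    rw [← sub_eq_zero, Preadditive.comp_sub]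
    have : fs ≫ α ≫ R.cocomplex.d 0 1 = α ≫ R.cocomplex.d 0 1 + (fs ≫ b - b) := by
      rw [← hc', ← hα', Preadditive.sub_comp, Category.assoc]
      abel
    rw [this]
    abel))
  refine (R.extMk_eq_zero_iff _ 3 rfl _ 1 rfl).2 ⟨β, cover_cancel (K := K) (L := L) ?_⟩
  rw [← Category.assoc, hβ, Preadditive.sub_comp, hb, Category.assoc, HomologicalComplex.d_comp_d, comp_zero, sub_zero]

end Groth.Agent.GalCd13
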