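import Groth.Agent.GalCd13.CyclicStep
import Groth.Agent.EtTrace.H1Point
import Mathlib.GroupTheory.Sylow
import Mathlib.GroupTheory.IndexNormal
import Mathlib.FieldTheory.Galois.Basic
import Mathlib.RingTheory.Norm.Transitivity

/-!
# Degree two cohomology of `Gm` along extensions of prime power degree
-/

set_option autoImplicit false
set_option linter.style.haveILetI false
set_option backward.isDefEq.respectTransparency false
set_option backward.isDefEq.respectTransparency.types false
set_option maxHeartbeats 1000000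

universe u

open CategoryTheory CategoryTheory.Limits AlgebraicGeometry Opposite CategoryTheory.Abelian

namespace Groth.Agent.GalCd13

open Groth.Agent.EtFound Groth.Agent.EtTrace

/-- Norms are surjective in extensions of degree `ℓ` of finite separable extensions. -/
def NormSurj (ℓ : ℕ) (K : Type u) [Field K] : Prop :=
  ∀ (E L : Type u) [Field E] [Field L] [Algebra K E] [Algebra K L] [Algebra E L] [IsScalarTower K E L]
    [FiniteDimensional K E] [FiniteDimensional K L] [Algebra.IsSeparable K E] [Algebra.IsSeparable K L]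
    [IsGalois E L], Module.finrank E L = ℓ → ∀ x : E, x ≠ 0 → ∃ y : L, Algebra.norm E y = x

theorem NormSurj.extension {ℓ : ℕ} {K : Type u} [Field K] (h : NormSurj ℓ K) (M : Type u) [Field M] [Algebra K M]
    [FiniteDimensional K M] [Algebra.IsSeparable K M] : NormSurj ℓ M := by
  intro E L _ _ _ _ _ _ _ _ _ _ _ hd x hx
  letI : Algebra K E := ((algebraMap M E).comp (algebraMap K M)).toAlgebra
  letI : Algebra K L := ((algebraMap M L).comp (algebraMap K M)).toAlgebra
  haveI : IsScalarTower K M E := IsScalarTower.of_algebraMap_eq fun _ => rfl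
  haveI : IsScalarTower K M L := IsScalarTower.of_algebraMap_eq fun _ => rfl
  haveI : IsScalarTower K E L := IsScalarTower.of_algebraMap_eq fun x => by
    show algebraMap M L (algebraMap K M x) = algebraMap E L (algebraMap M E (algebraMap K M x))
    rw [← IsScalarTower.algebraMap_apply M E L]
  haveI : FiniteDimensional K E := Module.Finite.trans M E
  haveI : FiniteDimensional K L := Module.Finite.trans M L
  haveI : Algebra.IsSeparable K E := Algebra.IsSeparable.trans K M E
  haveI : Algebra.IsSeparable K L := Algebra.IsSeparable.trans K M L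
  exact h E L hd x hx

variable {K : Type u} [Field K]

local notation "S" => Spec (CommRingCat.of K)

section value

variable {L : Type u} [Field L] [Algebra K L] [FiniteDimensional K L] [Algebra.IsSeparable K L]

variable (L) in
/-- The element of the field of a section of `Gm`. -/
noncomputable def val (s : (EtCoh.Gm S).obj.obj (op (obj K L))) : L :=
  (Scheme.ΓSpecIso (CommRingCat.of L)).hom (Units.val (Additive.toMul (ULift.down s)) : Γ(Spec (CommRingCat.of L), ⊤))

theorem val_add (s t : (EtCoh.Gm S).obj.obj (op (obj K L))) : val L (s + t) = val L s * val L t :=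
  map_mul (Scheme.ΓSpecIso (CommRingCat.of L)).hom.hom _ _

theorem val_zero : val (K := K) L 0 = 1 := map_one (Scheme.ΓSpecIso (CommRingCat.of L)).hom.hom

theorem val_injective : Function.Injective (val (K := K) L) := fun s t h => by
  have h' := (ConcreteCategory.bijective_of_isIso (Scheme.ΓSpecIso (CommRingCat.of L)).hom).1 h
  exact ULift.ext _ _ (congrArg Additive.ofMul (Units.ext h'))

theorem exists_val {y : L} (hy : y ≠ 0) : ∃ s, val (K := K) L s = y := by
  refine ⟨⟨Additive.ofMul ((Units.mk0 y hy).map (Scheme.ΓSpecIso (CommRingCat.of L)).inv.hom.toMonoidHom)⟩, ?_⟩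
  exact ConcreteCategory.congr_hom (Scheme.ΓSpecIso (CommRingCat.of L)).inv_hom_id y

theorem val_ne_zero (s : (EtCoh.Gm S).obj.obj (op (obj K L))) : val L s ≠ 0 :=
  ((Additive.toMul (ULift.down s)).isUnit.map (Scheme.ΓSpecIso (CommRingCat.of L)).hom.hom).ne_zero

theorem val_sum {ι : Type*} (t : Finset ι) (s : ι → (EtCoh.Gm S).obj.obj (op (obj K L))) :
    val L (∑ i ∈ t, s i) = ∏ i ∈ t, val L (s i) := by
  classical
  induction t using Finset.induction_on with
  | empty => simp [val_zero]
  | insert a t ha ih => rw [Finset.sum_insert ha, Finset.prod_insert ha, val_add, ih]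

theorem val_map {M : Type u} [Field M] [Algebra K M] [FiniteDimensional K M] [Algebra.IsSeparable K M]
    (φ : L →ₐ[K] M) (s : (EtCoh.Gm S).obj.obj (op (obj K L))) :
    val M ((EtCoh.Gm S).obj.map (homOf φ).op s) = φ (val L s) :=
  ConcreteCategory.congr_hom (Scheme.ΓSpecIso_naturality (CommRingCat.ofHom (φ : L →+* M))) _

end value

section chain

variable {E L : Type u} [Field E] [Field L] [Algebra K E] [Algebra K L] [Algebra E L] [IsScalarTower K E L]
  [FiniteDimensional K E] [FiniteDimensional K L] [Algebra.IsSeparable K E] [Algebra.IsSeparable K L]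

/-- A class of `Gm` killed by an extension of prime degree with surjective norm. -/
theorem eq_zero_Gm_of_prime [IsGalois E L] {ℓ : ℕ} [Fact ℓ.Prime] (hd : Module.finrank E L = ℓ)
    (hN : ∀ x : E, x ≠ 0 → ∃ y : L, Algebra.norm E y = x)
    (x : Ext.{u + 1} (freeOn (obj K E)) (EtCoh.Gm S) 2)
    (hx : (Ext.mk₀ (freeMap (cover K E L))).comp x (zero_add 2) = 0) : x = 0 := by
  classical
  haveI : FiniteDimensional E L := Module.Finite.of_restrictScalars_finite K E L
  have hcard : Nat.card (L ≃ₐ[E] L) = ℓ := (IsGalois.card_aut_eq_finrank E L).trans hd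
  haveI : IsCyclic (L ≃ₐ[E] L) := isCyclic_of_prime_card hcard
  obtain ⟨σ, hσ⟩ := IsCyclic.exists_monoid_generator (α := L ≃ₐ[E] L)
  have hord : orderOf σ = ℓ := by
    rw [← hcard]
    exact orderOf_eq_card_of_forall_mem_zpowers fun g => (Submonoid.powers_le.2 (Subgroup.mem_zpowers σ)) (hσ g)
  haveI : CompactSpace (obj K L).left := inferInstanceAs (CompactSpace (Spec (CommRingCat.of L)))
  refine eq_zero_of_cyclic (EtCoh.Gm S) σ hσ (Fact.out : ℓ.Prime).pos hord (subsingleton_ext_Gm_field _) (fun ψ₀ => ?_) x hx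
  obtain ⟨y, hy⟩ := hN (val E (freeVal ψ₀)) (val_ne_zero _)
  have hy0 : y ≠ 0 := fun h => val_ne_zero (freeVal ψ₀) (by rw [← hy, h, Algebra.norm_zero])
  obtain ⟨s, hs⟩ := exists_val (K := K) hy0
  obtain ⟨g, hg⟩ := exists_free_hom (W := obj K L) (G := EtCoh.Gm S) s
  refine ⟨g, free_ext (val_injective ?_)⟩
  rw [freeVal_sum, val_sum]
  have h1 : ∀ i, val L (freeVal (freeMap (act K (σ ^ i) : obj K L ⟶ obj K L) ≫ g)) = (σ ^ i) y := fun i => by
    rw [freeVal_freeMap_comp, hg, ← hs]
    exact val_map _ _
  rw [Finset.prod_congr rfl fun i _ => h1 i, freeVal_freeMap_comp, cover, val_map]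
  show _ = algebraMap E L (val E (freeVal ψ₀))
  rw [← hy, Algebra.norm_eq_prod_automorphisms]
  refine Finset.prod_nbij (fun i => σ ^ i) (fun i _ => Finset.mem_univ _) (fun i hi j hj h => ?_) (fun g _ => ?_)
    (fun i _ => rfl)
  · exact pow_injOn_Iio_orderOf (Set.mem_Iio.2 (hord.symm ▸ Finset.mem_range.1 hi))
      (Set.mem_Iio.2 (hord.symm ▸ Finset.mem_range.1 hj)) h
  · obtain ⟨i, rfl⟩ := hσ g
    exact ⟨i % ℓ, Finset.mem_coe.2 (Finset.mem_range.2 (Nat.mod_lt _ (Fact.out : ℓ.Prime).pos)),
      hord ▸ (pow_mod_orderOf σ i)⟩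

end chain

/-- Classes of `Gm` of degree two killed by Galois extensions of prime power degree vanish. -/
theorem eq_zero_Gm_of_pow {ℓ : ℕ} [Fact ℓ.Prime] (hN : NormSurj ℓ K) : ∀ (m : ℕ) (E L : Type u) [Field E] [Field L]
    [Algebra K E] [Algebra K L] [Algebra E L] [IsScalarTower K E L] [FiniteDimensional K E] [FiniteDimensional K L]
    [Algebra.IsSeparable K E] [Algebra.IsSeparable K L] [IsGalois E L], Module.finrank E L = ℓ ^ m →
      ∀ x : Ext.{u + 1} (freeOn (obj K E)) (EtCoh.Gm S) 2,
        (Ext.mk₀ (freeMap (cover K E L))).comp x (zero_add 2) = 0 → x = 0 := by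
  intro m
  induction m with
  | zero =>
    intro E L _ _ _ _ _ _ _ _ _ _ _ hd x hx
    haveI : FiniteDimensional E L := Module.Finite.of_restrictScalars_finite K E L
    have hsur : Function.Surjective (algebraMap E L) := fun y => by
      have h : (⊥ : Subalgebra E L) = ⊤ := Subalgebra.bot_eq_top_of_finrank_eq_one (by rwa [pow_zero] at hd)
      exact Algebra.mem_bot.1 (h.symm ▸ Algebra.mem_top : y ∈ (⊥ : Subalgebra E L))
    haveI : IsIso (cover K E L) := by
      let e : E ≃ₐ[K] L := AlgEquiv.ofBijective (IsScalarTower.toAlgHom K E L) ⟨(algebraMap E L).injective, hsur⟩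
      refine ⟨homOf e.symm.toAlgHom, ?_, ?_⟩
      · rw [cover, homOf_comp]
        exact (congrArg homOf (AlgHom.ext fun y => e.apply_symm_apply y)).trans homOf_id
      · rw [cover, homOf_comp]
        exact (congrArg homOf (AlgHom.ext fun y => e.symm_apply_apply y)).trans homOf_id
    have h2 := congrArg ((Ext.mk₀ (freeMap (inv (cover K E L)))).precomp (EtCoh.Gm S) (zero_add 2)) hx
    rw [map_zero] at h2
    refine Eq.trans ?_ h2
    show x = (Ext.mk₀ (freeMap (inv (cover K E L)))).comp ((Ext.mk₀ (freeMap (cover K E L))).comp x (zero_add 2)) (zero_add 2)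
    rw [Ext.mk₀_comp_mk₀_assoc, ← freeMap_comp, IsIso.inv_hom_id, freeMap_id, Ext.mk₀_id_comp]
  | succ m ih =>
    intro E L _ _ _ _ _ _ _ _ _ _ _ hd x hx
    haveI : FiniteDimensional E L := Module.Finite.of_restrictScalars_finite K E L
    have hp := (Fact.out : ℓ.Prime)
    have hcard : Nat.card (L ≃ₐ[E] L) = ℓ ^ (m + 1) := (IsGalois.card_aut_eq_finrank E L).trans hd
    obtain ⟨H, hH⟩ := Sylow.exists_subgroup_card_pow_prime ℓ (G := L ≃ₐ[E] L) (n := m)
      (hcard ▸ pow_dvd_pow ℓ (Nat.le_succ m))
    have hidx : H.index = ℓ := by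
      have h := H.card_mul_index
      rw [hH, hcard, pow_succ] at h
      exact Nat.eq_of_mul_eq_mul_left (pow_pos hp.pos m) h
    haveI : H.Normal := Subgroup.normal_of_index_eq_minFac_card (by rw [hidx, hcard, hp.pow_minFac (Nat.succ_ne_zero m)])
    let E₁ := IntermediateField.fixedField H
    haveI : FiniteDimensional K E₁ := Module.Finite.trans E E₁
    haveI : Algebra.IsSeparable K E₁ := Algebra.IsSeparable.trans K E E₁
    haveI : IsScalarTower K E₁ L := IsScalarTower.of_algebraMap_eq fun y => by
      rw [IsScalarTower.algebraMap_apply K E L, IsScalarTower.algebraMap_apply K E E₁,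
        ← IsScalarTower.algebraMap_apply E E₁ L]
    haveI : IsGalois E₁ L := IsGalois.tower_top_of_isGalois E E₁ L
    haveI : IsGalois E E₁ := IsGalois.of_fixedField_normal_subgroup H
    have hd₁ : Module.finrank E₁ L = ℓ ^ m := (IntermediateField.finrank_fixedField_eq_card H).trans hH
    have hd₀ : Module.finrank E E₁ = ℓ := by
      have h := Module.finrank_mul_finrank E E₁ L
      rw [hd₁, hd, pow_succ'] at h
      exact Nat.eq_of_mul_eq_mul_right (pow_pos hp.pos m) h
    refine eq_zero_Gm_of_prime (K := K) (L := E₁) hd₀ (hN E E₁ hd₀) x (ih E₁ L hd₁ _ ?_)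
    rw [Ext.mk₀_comp_mk₀_assoc, ← freeMap_comp, cover, cover, homOf_comp]
    refine Eq.trans ?_ hx
    refine congrArg (fun t => (Ext.mk₀ (freeMap t)).comp x (zero_add 2)) (congrArg homOf (AlgHom.ext fun y => ?_))
    exact (IsScalarTower.algebraMap_apply E E₁ L y).symm

end Groth.Agent.GalCd13
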