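import Groth.Agent.EtLC12.FlasqueAcyclic
import Groth.Agent.EtFound.AbLocEq

/-!
# Free cyclic actions on étale objects and injective sheaves
-/

set_option autoImplicit false
set_option linter.style.haveILetI false
set_option backward.isDefEq.respectTransparency false
set_option backward.isDefEq.respectTransparency.types false

universe u

open CategoryTheory CategoryTheory.Limits AlgebraicGeometry Opposite

namespace Groth.Agent.GalCd13

open Groth.Agent.EtLC12

variable {X : Scheme.{u}}

/-- Powers of an endomorphism, applied after a morphism. -/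
theorem comp_pow_add {W T : X.Etale} (s : End W) (h : T ⟶ W) (i j : ℕ) :
    (h ≫ (s ^ i : End W)) ≫ (s ^ j : End W) = h ≫ (s ^ (i + j) : End W) := by
  rw [Category.assoc]
  refine congrArg (h ≫ ·) ?_
  rw [add_comm, pow_add]
  rfl

/-- The first cohomology of a free cyclic action on the sections of an injective sheaf vanishes. -/
theorem exists_sub_eq_of_sum_eq_zero (I : EtCoh.Ab X) [Injective I] {W : X.Etale} (s : End W) {n : ℕ} (hn : 0 < n)
    (hsn : s ^ n = 1)
    (hfree : ∀ (T : X.Etale) (h : T ⟶ W) (_ : T.left) (i : ℕ), i < n → h ≫ (s ^ i : End W) = h → i = 0)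
    (f : I.obj.obj (op W)) (hf : ∑ i ∈ Finset.range n, I.obj.map (Quiver.Hom.op (s ^ i : End W)) f = 0) :
    ∃ a : I.obj.obj (op W), I.obj.map (Quiver.Hom.op (s : W ⟶ W)) a - a = f := by
  classical
  haveI : LocallySmall.{u + 1} X.Etale := ⟨fun _ _ => inferInstance⟩
  haveI : Injective I.obj :=
    Injective.injective_of_adjoint (sheafificationAdjunction X.smallEtaleTopology AddCommGrpCat.{u + 1}) I
  let A : X.Etale → AddCommGrpCat.{u + 1} := fun T => I.obj.obj (op T)
  let m : I.obj ⟶ FlasqueAcyclic.cofree A :=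
    { app := fun T => AddCommGrpCat.ofHom
        { toFun := fun x _ h => I.obj.map h.op x
          map_zero' := funext₂ fun _ h => map_zero (I.obj.map h.op).hom
          map_add' := fun x y => funext₂ fun _ h => map_add (I.obj.map h.op).hom x y }
      naturality := fun S T g => AddCommGrpCat.ext fun x => funext₂ fun _ h =>
        (ConcreteCategory.congr_hom (I.obj.map_comp g h.op) x).symm }
  haveI : Mono m := by
    have : ∀ T, Mono (m.app T) := fun T => (AddCommGrpCat.mono_iff_injective _).2 fun x y hxy => by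
      have h : I.obj.map (𝟙 T) x = I.obj.map (𝟙 T) y := congrFun (congrFun hxy T.unop) (𝟙 _)
      rw [I.obj.map_id] at h
      exact h
    exact NatTrans.mono_of_mono_app _
  let r := Injective.factorThru (𝟙 I.obj) m
  -- the values of `f` on objects over `W`
  let φ : ∀ T : X.Etale, (T ⟶ W) → A T := fun T h => I.obj.map h.op f
  have hres : ∀ (T : X.Etale) (h : T ⟶ W), ∑ i ∈ Finset.range n, φ T (h ≫ (s ^ i : End W)) = 0 := fun T h => by
    have h1 := congrArg (I.obj.map h.op) hf
    rw [map_sum, map_zero] at h1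
    refine Eq.trans (Finset.sum_congr rfl fun i _ => ?_) h1
    exact ConcreteCategory.congr_hom (I.obj.map_comp (Quiver.Hom.op (s ^ i : End W)) h.op) f
  -- representatives of orbits
  let rel : ∀ T : X.Etale, Setoid (T ⟶ W) := fun T =>
    { r := fun h h' => ∃ i, h ≫ (s ^ i : End W) = h'
      iseqv :=
        { refl := fun h => ⟨0, by rw [pow_zero]; exact Category.comp_id h⟩
          symm := fun {h h'} ⟨i, hi⟩ => ⟨n * (i + 1) - i, by
            rw [← hi, comp_pow_add, Nat.add_sub_cancel' (le_trans (Nat.le_succ i) (Nat.le_mul_of_pos_left _ hn)),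
              pow_mul, hsn, one_pow]
            exact Category.comp_id h⟩
          trans := fun {h h' h''} ⟨i, hi⟩ ⟨j, hj⟩ => ⟨i + j, by rw [← comp_pow_add, hi, hj]⟩ } }
  let ρ : ∀ T : X.Etale, (T ⟶ W) → (T ⟶ W) := fun T h => (Quotient.mk (rel T) h).out
  have hρ : ∀ T (h : T ⟶ W), ∃ i, i < n ∧ ρ T h ≫ (s ^ i : End W) = h := fun T h => by
    obtain ⟨i, hi⟩ := Quotient.exact (s := rel T) (Quotient.out_eq (Quotient.mk (rel T) h))
    exact ⟨i % n, Nat.mod_lt _ hn, by rw [← pow_eq_pow_mod i hsn]; exact hi⟩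
  choose idx hidx hρidx using hρ
  let a₀ : (FlasqueAcyclic.cofree A).obj (op W) := fun T h => ∑ j ∈ Finset.range (idx T h), φ T (ρ T h ≫ (s ^ j : End W))
  have hkey : ∀ T (h : T ⟶ W), (a₀ : ∀ T : X.Etale, (T ⟶ W) → A T) T (h ≫ (s : W ⟶ W)) -
      (a₀ : ∀ T : X.Etale, (T ⟶ W) → A T) T h = φ T h := fun T h => by
    by_cases hT : Nonempty T.left
    · obtain ⟨v⟩ := hT
      have hρ' : ρ T (h ≫ (s : W ⟶ W)) = ρ T h := by
        refine congrArg Quotient.out (Quotient.sound (s := rel T) ?_)
        exact (rel T).symm ⟨1, by rw [pow_one]⟩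
      have huniq : ∀ i j, i < n → j < n → ρ T h ≫ (s ^ i : End W) = ρ T h ≫ (s ^ j : End W) → i = j := by
        intro i j hi hj hij
        wlog hle : i ≤ j generalizing i j
        · exact (this j i hj hi hij.symm (le_of_not_ge hle)).symm
        · have h0 := hfree T (ρ T h ≫ (s ^ i : End W)) v (j - i) (by omega) (by
            rw [comp_pow_add, Nat.add_sub_cancel' hle, hij])
          omega
      have hstep : ρ T h ≫ (s ^ (idx T h + 1) : End W) = h ≫ (s : W ⟶ W) := by
        rw [← comp_pow_add, hρidx, pow_one]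
      by_cases hlt : idx T h + 1 < n
      · have hi : idx T (h ≫ (s : W ⟶ W)) = idx T h + 1 := by
          refine huniq _ _ (hidx T _) hlt ?_
          rw [hstep]
          exact (congrArg (· ≫ _) hρ'.symm).trans (hρidx T _)
        show ∑ j ∈ Finset.range (idx T (h ≫ (s : W ⟶ W))), φ T (ρ T (h ≫ (s : W ⟶ W)) ≫ (s ^ j : End W)) - _ = _
        rw [hi, hρ', Finset.sum_range_succ, add_comm, add_sub_assoc, hρidx]
        exact (congrArg (φ T h + ·) (sub_self _)).trans (add_zero _)
      · have hlast : idx T h + 1 = n := by have := hidx T h; omega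
        have hi : idx T (h ≫ (s : W ⟶ W)) = 0 := by
          refine huniq _ _ (hidx T _) hn ?_
          rw [pow_zero]
          refine (congrArg (· ≫ _) hρ'.symm).trans ((hρidx T _).trans ?_)
          rw [← hstep, hlast, hsn]
        show ∑ j ∈ Finset.range (idx T (h ≫ (s : W ⟶ W))), φ T (ρ T (h ≫ (s : W ⟶ W)) ≫ (s ^ j : End W)) -
          ∑ j ∈ Finset.range (idx T h), φ T (ρ T h ≫ (s ^ j : End W)) = _
        have h1 := hres T (ρ T h)
        rw [← hlast, Finset.sum_range_succ, hρidx] at h1
        rw [hi, Finset.sum_range_zero, zero_sub]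
        exact neg_eq_of_add_eq_zero_right h1
    · refine AbLocEq.eq_of_aEq I fun z => (hT ⟨z⟩).elim
  refine ⟨r.app (op W) a₀, ?_⟩
  have h1 : r.app (op W) ((FlasqueAcyclic.cofree A).map (Quiver.Hom.op (s : W ⟶ W)) a₀ - a₀) = r.app (op W) (m.app (op W) f) := by
    refine congrArg (r.app (op W)) ?_
    exact funext₂ fun T h => hkey T h
  rw [map_sub, NatTrans.naturality_apply] at h1
  refine h1.trans ?_
  exact ConcreteCategory.congr_hom (congrArg (fun t : I.obj ⟶ I.obj => t.app (op W)) (Injective.comp_factorThru (𝟙 I.obj) m)) f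

end Groth.Agent.GalCd13
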