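import Groth.Agent.GalCd13.Brauer
import Groth.Agent.TsenLib.Norm
import Groth.Agent.GalCohMisc.NormOne
import Groth.Agent.EtFound.UnivInjPush
import Groth.Agent.MorLib.RingUnivHomeo
import Groth.Agent.S8575
import Groth.Agent.EtFound.AcyclicComp
import Groth.Agent.BCCrit13.Basic
import Mathlib.FieldTheory.RatFunc.Basic
import Mathlib.FieldTheory.PurelyInseparable.Basic

/-!
# The geometric fibre of a rational function field
-/

set_option autoImplicit false
set_option linter.style.haveILetI false
set_option backward.isDefEq.respectTransparency false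
set_option backward.isDefEq.respectTransparency.types false
set_option maxHeartbeats 1000000

universe u

open CategoryTheory CategoryTheory.Limits AlgebraicGeometry Opposite CategoryTheory.Abelian
open scoped TensorProduct Polynomial nonZeroDivisors

namespace Groth.Agent.GalCd13

open Groth.Agent.EtFound

/-- Rational function fields over algebraically closed fields have dimension at most one. -/
theorem subsingleton_H_ratFunc (Ω : Type u) [Field Ω] [IsAlgClosed Ω] {F : EtCoh.Ab (Spec (CommRingCat.of (RatFunc Ω)))}
    (hF : EtCoh.IsTorsion F) {q : ℕ} (hq : 2 ≤ q) :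
    Subsingleton (EtCoh.H (Spec (CommRingCat.of (RatFunc Ω))) F q) := by
  have hC : Curves.IsCr (RatFunc Ω) 1 := TsenLib.isCr_one_of_isCi (TsenLib.isCi_succ_ratFunc TsenLib.isCi_zero)
  refine subsingleton_H_torsion (fun ℓ hℓ => ?_) hF hq
  intro E L _ _ _ _ _ _ _ _ _ _ _ _ z _
  haveI : FiniteDimensional E L := Module.Finite.of_restrictScalars_finite (RatFunc Ω) E L
  exact GalCohMisc.norm_surjective_of_isCr (TsenLib.isCr_one_of_finite hC) z

variable (K R : Type u) [Field K] [Field R] [Algebra K R]

/-- The map from the fibre of the rational function field to the rational functions over the closure. -/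
noncomputable def toRatFuncClosure : RatFunc K ⊗[K] R →ₐ[K] RatFunc (AlgebraicClosure R) :=
  Algebra.TensorProduct.lift
    (RatFunc.liftAlgHom
      ((IsScalarTower.toAlgHom K (AlgebraicClosure R)[X] (RatFunc (AlgebraicClosure R))).comp
        (Polynomial.mapAlgHom (Algebra.ofId K (AlgebraicClosure R))))
      (nonZeroDivisors_le_comap_nonZeroDivisors_of_injective _
        ((RatFunc.algebraMap_injective (AlgebraicClosure R)).comp
          (Polynomial.map_injective _ (algebraMap K (AlgebraicClosure R)).injective))))
    ((IsScalarTower.toAlgHom K (AlgebraicClosure R) (RatFunc (AlgebraicClosure R))).comp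
      (IsScalarTower.toAlgHom K R (AlgebraicClosure R)))
    fun _ _ => Commute.all _ _

theorem toRatFuncClosure_poly (p : K[X]) :
    toRatFuncClosure K R (algebraMap K[X] (RatFunc K) p ⊗ₜ 1) =
      algebraMap (AlgebraicClosure R)[X] (RatFunc (AlgebraicClosure R)) (p.map (algebraMap K (AlgebraicClosure R))) := by
  simp [toRatFuncClosure, RatFunc.liftAlgHom_apply, RatFunc.num_algebraMap, RatFunc.denom_algebraMap]

theorem toRatFuncClosure_const (r : R) :
    toRatFuncClosure K R (1 ⊗ₜ r) = algebraMap (AlgebraicClosure R) (RatFunc (AlgebraicClosure R))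
      (algebraMap R (AlgebraicClosure R) r) := by
  simp [toRatFuncClosure]

theorem injective_toRatFuncClosure : Function.Injective (toRatFuncClosure K R) := by
  let Θ : R[X] →+* RatFunc K ⊗[K] R :=
    Polynomial.eval₂RingHom (Algebra.TensorProduct.includeRight (R := K) (A := RatFunc K) (B := R)).toRingHom
      ((RatFunc.X : RatFunc K) ⊗ₜ 1)
  have hΘC : ∀ r : R, Θ (Polynomial.C r) = 1 ⊗ₜ r := fun r => by simp [Θ]
  have hΘX : Θ Polynomial.X = (RatFunc.X : RatFunc K) ⊗ₜ 1 := by simp [Θ]
  have hΘmap : ∀ p : K[X], Θ (p.map (algebraMap K R)) = algebraMap K[X] (RatFunc K) p ⊗ₜ 1 := by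
    suffices Θ.comp (Polynomial.mapRingHom (algebraMap K R)) =
        ((Algebra.TensorProduct.includeLeft (R := K) (S := K) (A := RatFunc K) (B := R)).toRingHom).comp
          (algebraMap K[X] (RatFunc K)) from fun p => RingHom.congr_fun this p
    refine Polynomial.ringHom_ext (fun c => ?_) ?_
    · simp only [RingHom.comp_apply, Polynomial.coe_mapRingHom, Polynomial.map_C, hΘC, AlgHom.toRingHom_eq_coe,
        RingHom.coe_coe, Algebra.TensorProduct.includeLeft_apply]
      rw [← Polynomial.algebraMap_eq, ← IsScalarTower.algebraMap_apply K K[X] (RatFunc K),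
        Algebra.algebraMap_eq_smul_one (A := RatFunc K), Algebra.algebraMap_eq_smul_one (A := R),
        TensorProduct.tmul_smul, TensorProduct.smul_tmul']
    · simp [hΘX, RatFunc.algebraMap_X]
  have key : ∀ z : RatFunc K ⊗[K] R, ∃ s : K[X], s ≠ 0 ∧ ∃ p : R[X],
      z * (algebraMap K[X] (RatFunc K) s ⊗ₜ 1) = Θ p := fun z => by
    induction z using TensorProduct.induction_on with
    | zero => exact ⟨1, one_ne_zero, 0, by simp⟩
    | tmul a r =>
      refine ⟨a.denom, RatFunc.denom_ne_zero a, Polynomial.C r * a.num.map (algebraMap K R), ?_⟩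
      rw [map_mul, hΘC, hΘmap, Algebra.TensorProduct.tmul_mul_tmul, Algebra.TensorProduct.tmul_mul_tmul, one_mul]
      congr 1
      exact ((div_eq_iff (RatFunc.algebraMap_ne_zero (RatFunc.denom_ne_zero a))).1 (RatFunc.num_div_denom a)).symm
    | add a b ha hb =>
      obtain ⟨s, hs, f, hf⟩ := ha
      obtain ⟨t, ht, g, hg⟩ := hb
      refine ⟨s * t, mul_ne_zero hs ht, f * t.map (algebraMap K R) + g * s.map (algebraMap K R), ?_⟩
      have hst : (algebraMap K[X] (RatFunc K) (s * t)) ⊗ₜ[K] (1 : R) =
          (algebraMap K[X] (RatFunc K) s ⊗ₜ 1) * (algebraMap K[X] (RatFunc K) t ⊗ₜ 1) := by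
        rw [Algebra.TensorProduct.tmul_mul_tmul, map_mul, one_mul]
      rw [hst, map_add, map_mul, map_mul, hΘmap, hΘmap, ← hf, ← hg]
      ring
  have hψΘ : (toRatFuncClosure K R).toRingHom.comp Θ =
      (algebraMap (AlgebraicClosure R)[X] (RatFunc (AlgebraicClosure R))).comp
        (Polynomial.mapRingHom (algebraMap R (AlgebraicClosure R))) := by
    refine Polynomial.ringHom_ext (fun r => ?_) ?_
    · show toRatFuncClosure K R (Θ (Polynomial.C r)) = _
      rw [hΘC, toRatFuncClosure_const]
      simp [IsScalarTower.algebraMap_apply (AlgebraicClosure R) (AlgebraicClosure R)[X] (RatFunc (AlgebraicClosure R))]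
    · show toRatFuncClosure K R (Θ Polynomial.X) = _
      rw [hΘX, ← RatFunc.algebraMap_X, toRatFuncClosure_poly]
      simp
  refine (injective_iff_map_eq_zero _).2 fun z hz => ?_
  obtain ⟨s, hs, p, hp⟩ := key z
  have hp0 : p = 0 := by
    refine Polynomial.map_injective _ (algebraMap R (AlgebraicClosure R)).injective ?_
    refine RatFunc.algebraMap_injective (AlgebraicClosure R) ?_
    refine (RingHom.congr_fun hψΘ p).symm.trans ?_
    show toRatFuncClosure K R (Θ p) = _
    rw [← hp, map_mul, hz, zero_mul, Polynomial.map_zero, map_zero]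
  rw [hp0, map_zero] at hp
  exact (((isUnit_iff_ne_zero.2 (RatFunc.algebraMap_ne_zero hs)).map
    (Algebra.TensorProduct.includeLeft (R := K) (S := K) (A := RatFunc K) (B := R))).mul_left_eq_zero).1 hp

theorem isIntegral_toRatFuncClosure [Algebra.IsAlgebraic K R] : (toRatFuncClosure K R).toRingHom.IsIntegral := by
  let j : RatFunc K →+* RatFunc (AlgebraicClosure R) :=
    (toRatFuncClosure K R).toRingHom.comp (Algebra.TensorProduct.includeLeft (R := K) (S := K)).toRingHom
  suffices h : j.IsIntegral from RingHom.IsIntegral.tower_top _ _ h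
  letI : Algebra (RatFunc K) (RatFunc (AlgebraicClosure R)) := j.toAlgebra
  haveI : IsScalarTower K (RatFunc K) (RatFunc (AlgebraicClosure R)) := IsScalarTower.of_algebraMap_eq fun c => by
    show _ = toRatFuncClosure K R (algebraMap K (RatFunc K) c ⊗ₜ 1)
    rw [← Algebra.TensorProduct.algebraMap_apply, AlgHom.commutes]
  haveI : Algebra.IsAlgebraic K (AlgebraicClosure R) := Algebra.IsAlgebraic.trans K R (AlgebraicClosure R)
  let T := integralClosure (RatFunc K) (RatFunc (AlgebraicClosure R))
  have hpoly : ∀ p : (AlgebraicClosure R)[X], algebraMap _ (RatFunc (AlgebraicClosure R)) p ∈ T := fun p => by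
    induction p using Polynomial.induction_on' with
    | add a b ha hb => rw [map_add]; exact T.add_mem ha hb
    | monomial n c =>
      rw [← Polynomial.C_mul_X_pow_eq_monomial, map_mul, map_pow]
      refine T.mul_mem ?_ (T.pow_mem ?_ n)
      · rw [← Polynomial.algebraMap_eq, ← IsScalarTower.algebraMap_apply]
        have hc : IsIntegral K c := Algebra.IsIntegral.isIntegral c
        exact IsIntegral.tower_top
          (hc.map (IsScalarTower.toAlgHom K (AlgebraicClosure R) (RatFunc (AlgebraicClosure R))))
      · have hX : algebraMap _ (RatFunc (AlgebraicClosure R)) (Polynomial.X : (AlgebraicClosure R)[X]) = j RatFunc.X := by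
          show _ = toRatFuncClosure K R ((RatFunc.X : RatFunc K) ⊗ₜ 1)
          rw [← RatFunc.algebraMap_X, toRatFuncClosure_poly, Polynomial.map_X]
        rw [hX]
        exact isIntegral_algebraMap
  intro z
  show IsIntegral (RatFunc K) z
  rw [← RatFunc.num_div_denom z, div_eq_mul_inv]
  exact IsIntegral.mul (hpoly _) ((hpoly _ : IsIntegral (RatFunc K) _).inv)

theorem radicial_toRatFuncClosure [IsSepClosed R] : MorLib.RUH.Radicial (toRatFuncClosure K R).toRingHom := by
  intro F _ f g hfg
  have hT : ∀ t, f (toRatFuncClosure K R t) = g (toRatFuncClosure K R t) := fun t => RingHom.congr_fun hfg t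
  obtain ⟨q, hq⟩ := ExpChar.exists R
  haveI : ExpChar F q := expChar_of_injective_ringHom
    ((f.comp ((algebraMap (AlgebraicClosure R) (RatFunc (AlgebraicClosure R))).comp
      (algebraMap R (AlgebraicClosure R))))).injective q
  have hc : ∀ c : AlgebraicClosure R, f (algebraMap _ _ c) = g (algebraMap _ _ c) := fun c => by
    obtain ⟨n, r, hr⟩ := IsPurelyInseparable.pow_mem R q c
    refine iterateFrobenius_inj F q n ?_
    rw [iterateFrobenius_def, iterateFrobenius_def, ← map_pow f, ← map_pow g, ← map_pow, ← hr, ← toRatFuncClosure_const K R]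
    exact hT _
  refine IsLocalization.ringHom_ext (nonZeroDivisors (AlgebraicClosure R)[X]) (Polynomial.ringHom_ext (fun c => ?_) ?_)
  · simp only [RingHom.comp_apply]
    rw [← Polynomial.algebraMap_eq, ← IsScalarTower.algebraMap_apply]
    exact hc c
  · have h := hT ((algebraMap K[X] (RatFunc K) Polynomial.X) ⊗ₜ 1)
    rw [toRatFuncClosure_poly, Polynomial.map_X] at h
    exact h

/-- The fibre of a rational function field over a separably closed algebraic extension has dimension at most one. -/
theorem subsingleton_H_tensor [Algebra.IsAlgebraic K R] [IsSepClosed R]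
    {F : EtCoh.Ab (Spec (CommRingCat.of (RatFunc K ⊗[K] R)))} (hF : EtCoh.IsTorsion F) {q : ℕ} (hq : 2 ≤ q) :
    Subsingleton (EtCoh.H (Spec (CommRingCat.of (RatFunc K ⊗[K] R))) F q) := by
  let h := Spec.map (CommRingCat.ofHom (toRatFuncClosure K R).toRingHom)
  haveI : IsIntegralHom h := IsIntegralHom.SpecMap_iff.2 (isIntegral_toRatFuncClosure K R)
  haveI : UniversallyInjective h := (MorLib.RUH.universallyInjective_SpecMap_iff _).2 (radicial_toRatFuncClosure K R)
  haveI : Surjective h := (MorLib.RUH.surjective_SpecMap_iff _).2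
    ((isIntegral_toRatFuncClosure K R).comap_surjective (injective_toRatFuncClosure K R))
  haveI := unit_isIso_of_surjective h F
  obtain ⟨e⟩ := S8575.nonempty_H_push h ((EtCoh.pull h).obj F) q
  haveI := subsingleton_H_ratFunc (AlgebraicClosure R) ((BCCrit13.isLTorsion_univ_iff _).1 (EtFound.isLTorsion_pull h Set.univ ((BCCrit13.isLTorsion_univ_iff _).2 hF))) hq
  haveI : Subsingleton (EtCoh.H (Spec (CommRingCat.of (RatFunc K ⊗[K] R))) ((EtCoh.push h).obj ((EtCoh.pull h).obj F)) q) :=
    e.toEquiv.subsingleton
  refine subsingleton_of_forall_eq 0 fun x => (postcomp_bijective ((EtCoh.pullPushAdj h).unit.app F) q).1 ?_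
  exact Subsingleton.elim (α := EtCoh.H _ ((EtCoh.push h).obj ((EtCoh.pull h).obj F)) q) _ _

end Groth.Agent.GalCd13
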