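import Groth.Agent.GalCd13.CyclicStep
import Groth.Agent.EtTrace.Torsion
import Groth.Agent.EtFound.PullExt
import Groth.Agent.EtFound.NoethACC
import Groth.Agent.EtFound.PushExact
import Groth.Agent.BigSiteLib.HofPushEt
import Groth.Agent.CohCrit13.Formal
import Mathlib.GroupTheory.Sylow
import Mathlib.FieldTheory.Galois.Basic

/-!
# Restriction to finite separable extensions and fixed sections
-/

set_option autoImplicit false
set_option linter.style.haveILetI false
set_option backward.isDefEq.respectTransparency false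
set_option backward.isDefEq.respectTransparency.types false
set_option maxHeartbeats 1000000

universe u

open CategoryTheory CategoryTheory.Limits AlgebraicGeometry Opposite CategoryTheory.Abelian

namespace Groth.Agent.GalCd13

open Groth.Agent.EtFound Groth.Agent.EtTrace

variable (K : Type u) [Field K] (M : Type u) [Field M] [Algebra K M]

/-- The morphism of spectra of an extension. -/
noncomputable abbrev pr : Spec (CommRingCat.of M) ⟶ Spec (CommRingCat.of K) :=
  Spec.map (CommRingCat.ofHom (algebraMap K M))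

local notation "S" => Spec (CommRingCat.of K)

instance surjective_pr : Surjective (pr K M) :=
  ⟨fun _ => ⟨(default : Spec (CommRingCat.of M)), Subsingleton.elim _ _⟩⟩

variable [FiniteDimensional K M]

instance integral_pr : IsIntegralHom (pr K M) :=
  IsIntegralHom.SpecMap_iff.2 fun y => IsIntegral.of_finite K y

variable [Algebra.IsSeparable K M]

instance etale_pr : AlgebraicGeometry.Etale (pr K M) := (obj K M).prop

instance pull_pr : PreservesFiniteLimits (EtCoh.pull (pr K M)) := EtFound.pull_preservesFiniteLimits _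

variable {K}

/-- Restriction kills exactly what the augmentation kills. -/
theorem hpull_eq_zero_iff (F : EtCoh.Ab S) (n : ℕ) (x : EtCoh.H S F n) :
    EtCore.Hpull (pr K M) F n x = 0 ↔ (Ext.mk₀ (aug (obj K M))).comp x (zero_add n) = 0 := by
  haveI : IsIso (𝟙 (obj K M).left) := IsIso.id _
  exact Hpull_eq_zero_iff (pr K M) (obj K M) (𝟙 _) (Category.id_comp _) F n x

/-- Restriction is injective on torsion prime to the degree. -/
theorem eq_zero_of_coprime {F : EtCoh.Ab S} {n N : ℕ} (x : EtCoh.H S F n)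
    (hM : Nat.Coprime (Module.finrank K M) N) (hN : N • x = 0) (hx : EtCore.Hpull (pr K M) F n x = 0) : x = 0 := by
  have h := nsmul_eq_zero x ((hpull_eq_zero_iff M F n x).1 hx)
  have hd : addOrderOf x ∣ 1 := by
    rw [← hM]
    exact Nat.dvd_gcd (addOrderOf_dvd_of_nsmul_eq_zero h) (addOrderOf_dvd_of_nsmul_eq_zero hN)
  exact AddMonoid.addOrderOf_eq_one_iff.1 (Nat.dvd_one.1 hd)

omit [FiniteDimensional K M] [Algebra.IsSeparable K M] in
/-- Sheaves embed into the direct image of their restriction. -/
theorem mono_unit (F : EtCoh.Ab S) [EtCoh.BCCont (pr K M)] :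
    Mono ((EtCoh.pullPushAdj (pr K M)).unit.app F) := by
  haveI : (EtCoh.pull (pr K M)).Faithful := EtFound.pullback_faithful (A := AddCommGrpCat.{u + 1}) (pr K M)
  infer_instance

/-- Classes killed by restriction die in the direct image of the restriction. -/
theorem unit_comp_eq_zero (F : EtCoh.Ab S) (q : ℕ) (x : EtCoh.H S F q) (hx : EtCore.Hpull (pr K M) F q x = 0) :
    x.comp (Ext.mk₀ ((EtCoh.pullPushAdj (pr K M)).unit.app F)) (add_zero q) = 0 := by
  let π := pr K M
  have hp := BigSiteLib.hofPush_bijective π ((EtCoh.pull π).obj F) (fun j hj => by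
    obtain ⟨m, rfl⟩ := Nat.exists_eq_succ_of_ne_zero hj.ne'
    haveI := EtFound.push_preservesFiniteLimits π
    haveI := EtFound.push_preservesFiniteColimits π
    exact LerayDegen.isZero_rightDerived_of_exact (EtCoh.push π) _ m) q
  refine hp.1 (Eq.trans ?_ (map_zero _).symm)
  show EtLimit.hmap ((EtCoh.pullPushAdj π).counit.app _) q
    (EtCore.Hpull π _ q (EtLimit.hmap ((EtCoh.pullPushAdj π).unit.app F) q x)) = 0
  exact (congrArg (EtLimit.hmap _ q) ((CohCrit13.Hpull_hmap π _ q x).trans
    ((congrArg _ hx).trans (map_zero _)))).trans (map_zero _)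

variable (K) in
/-- Stalk points of an extension lie over the unique point. -/
theorem base_eq {Ω Ω' : Type u} [Field Ω] [Field Ω'] (ξ : Spec (CommRingCat.of Ω) ⟶ S)
    (ξ' : Spec (CommRingCat.of Ω') ⟶ S) :
    ξ.base (default : Spec (CommRingCat.of Ω)) = ξ'.base (default : Spec (CommRingCat.of Ω')) :=
  @Subsingleton.elim (Spec (CommRingCat.of K)) (inferInstanceAs (Subsingleton (PrimeSpectrum K))) _ _

section Fixed

variable {p : ℕ} [Fact p.Prime]

omit [FiniteDimensional K M] [Algebra.IsSeparable K M] in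
/-- A nonzero sheaf killed by `p` has a nonzero global section over an extension of degree prime to `p`. -/
theorem exists_fixed {D : EtCoh.Ab S} (hD : p • 𝟙 D = 0) {Ω : Type u} [Field Ω] [IsSepClosed Ω]
    (ξ : Spec (CommRingCat.of Ω) ⟶ S) (a : (EtCoh.stalk ξ).obj D) (ha : a ≠ 0) :
    ∃ (E : Type u) (_ : Field E) (_ : Algebra K E) (_ : FiniteDimensional K E) (_ : Algebra.IsSeparable K E),
      ¬ p ∣ Module.finrank K E ∧ ∃ ψ : freeOn (obj K E) ⟶ D, ψ ≠ 0 := by
  classical
  obtain ⟨U, u₀, s, rfl⟩ := (Scheme.pointSmallEtale ξ).toPresheafFiber_jointly_surjective a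
  obtain ⟨L, _, _, _, _, i, hi, hiw⟩ := exists_open_point U
    ((u₀.left : Spec (CommRingCat.of Ω) ⟶ U.left).base (default : Spec (CommRingCat.of Ω)))
  have hs : D.obj.map i.op s ≠ 0 := by
    intro h0
    obtain ⟨v, hv, -⟩ := EtFound.exists_lift_point i u₀ (default : Spec (CommRingCat.of L)) (hiw _)
    refine ha ?_
    rw [← hv]
    refine ((Scheme.pointSmallEtale ξ).toPresheafFiber_w_apply i v D.obj s).symm.trans ?_
    exact (congrArg ((Scheme.pointSmallEtale ξ).toPresheafFiber (obj K L) v D.obj) h0).trans (map_zero _)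
  obtain ⟨ψL, hψL⟩ := exists_free_hom (D.obj.map i.op s)
  -- a Galois extension containing `L`
  let A := SeparableClosure L
  haveI : Algebra.IsSeparable K A := Algebra.IsSeparable.trans K L A
  haveI : IsSepClosure K A := ⟨inferInstance, inferInstance⟩
  let N := IntermediateField.normalClosure K L A
  haveI : IsGalois K N := IsGalois.normalClosure K L A
  let φ : L →ₐ[K] N := (IntermediateField.inclusion (IsScalarTower.toAlgHom K L A).fieldRange_le_normalClosure).comp
    (IsScalarTower.toAlgHom K L A).rangeRestrict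
  letI : Algebra L N := φ.toRingHom.toAlgebra
  haveI : IsScalarTower K L N := IsScalarTower.of_algebraMap_eq fun x => (φ.commutes x).symm
  let ψN : freeOn (obj K N) ⟶ D := freeMap (cover K L N) ≫ ψL
  have hψN : ψN ≠ 0 := fun h => hs <| by
    have h0 : ψL = 0 := cover_cancel (K := K) (E := L) (L := N) (h.trans comp_zero.symm)
    rw [← hψL, h0]
    rfl
  let P : Sylow p Gal(N/K) := default
  let E := IntermediateField.fixedField (P : Subgroup Gal(N/K))
  haveI : IsGalois E N := IsGalois.tower_top_of_isGalois K E N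
  refine ⟨E, inferInstance, inferInstance, inferInstance, inferInstance, ?_, ?_⟩
  · have h1 := Module.finrank_mul_finrank K E N
    rw [IntermediateField.finrank_fixedField_eq_card, ← IsGalois.card_aut_eq_finrank K N,
      ← (P : Subgroup Gal(N/K)).index_mul_card] at h1
    rw [Nat.eq_of_mul_eq_mul_right Nat.card_pos h1]
    exact P.not_dvd_index
  obtain ⟨e, he⟩ := P.isPGroup'.exists_card_eq
  have hG : IsPGroup p (N ≃ₐ[E] N) := IsPGroup.of_card (n := e) (by
    rw [IsGalois.card_aut_eq_finrank E N, IntermediateField.finrank_fixedField_eq_card, he])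
  let G := N ≃ₐ[E] N
  let tr : G → (freeOn (obj K N) ⟶ D) → (freeOn (obj K N) ⟶ D) := fun g v => freeMap (act K g : obj K N ⟶ obj K N) ≫ v
  have hk : ∀ v : freeOn (obj K N) ⟶ D, p • v = 0 := fun v => by
    have h := congrArg (v ≫ ·) hD
    simpa using h
  let l : G → (ZMod p →+ (freeOn (obj K N) ⟶ D)) := fun g => ZMod.lift p
    ⟨zmultiplesHom (freeOn (obj K N) ⟶ D) (tr g ψN), by rw [zmultiplesHom_apply, natCast_zsmul]; exact hk _⟩
  let Φ : (G → ZMod p) →+ (freeOn (obj K N) ⟶ D) :=
    ∑ g : G, (l g).comp (Pi.evalAddMonoidHom (fun _ : G => ZMod p) g)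
  have hΦ : ∀ c, Φ c = ∑ g : G, (c g).val • tr g ψN := fun c => by
    simp only [Φ, AddMonoidHom.finsetSum_apply, AddMonoidHom.comp_apply, Pi.evalAddMonoidHom_apply]
    refine Finset.sum_congr rfl fun g _ => ?_
    conv_lhs => rw [← ZMod.natCast_zmod_val (c g)]
    rw [← Int.cast_natCast (R := ZMod p)]
    exact (ZMod.lift_coe p _ _).trans (natCast_zsmul _ _)
  have htr : ∀ g h : G, ∀ v, tr g (tr h v) = tr (g * h) v := fun g h v => by
    show freeMap _ ≫ freeMap _ ≫ v = freeMap _ ≫ v
    rw [← Category.assoc, ← freeMap_comp, ← act_mul]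
  have htr1 : ∀ v, tr 1 v = v := fun v => by
    show freeMap _ ≫ v = v
    rw [act_one]
    exact (congrArg (· ≫ v) (freeMap_id _)).trans (Category.id_comp v)
  have hmem : ∀ (g : G) (v : Φ.range), tr g v.1 ∈ Φ.range := by
    rintro g ⟨_, c, rfl⟩
    refine ⟨fun h => c (g⁻¹ * h), ?_⟩
    show Φ _ = freeMap (act K g : obj K N ⟶ obj K N) ≫ Φ c
    rw [hΦ, hΦ]
    simp only [Preadditive.comp_sum, Preadditive.comp_nsmul]
    refine (Fintype.sum_equiv (Equiv.mulLeft g) _ _ fun h => ?_).symm
    rw [Equiv.coe_mulLeft, inv_mul_cancel_left]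
    exact congrArg ((c h).val • ·) (htr g h ψN)
  letI : MulAction G Φ.range :=
    { smul := fun g v => ⟨tr g v.1, hmem g v⟩
      one_smul := fun v => Subtype.ext (htr1 v.1)
      mul_smul := fun g h v => Subtype.ext (htr g h v.1).symm }
  haveI : Finite Φ.range := Finite.of_surjective Φ.rangeRestrict Φ.rangeRestrict_surjective
  have hmemψ : ψN ∈ Φ.range := ⟨Pi.single 1 1, by
    rw [hΦ, Finset.sum_eq_single (1 : G) (fun g _ hg => by rw [Pi.single_eq_of_ne hg, ZMod.val_zero, zero_smul])
      (fun h => absurd (Finset.mem_univ _) h), Pi.single_eq_same, ZMod.val_one, one_smul, htr1]⟩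
  have hdvd : p ∣ Nat.card Φ.range := by
    have h1 : Nat.card Φ.range ∣ Nat.card (G → ZMod p) := AddSubgroup.card_range_dvd Φ
    rw [Nat.card_fun, Nat.card_zmod] at h1
    obtain ⟨i, -, hi⟩ := (Nat.dvd_prime_pow (Fact.out : p.Prime)).1 h1
    rw [hi]
    refine dvd_pow_self p fun h0 => hψN ?_
    rw [h0, pow_zero, Nat.card_eq_one_iff_unique] at hi
    haveI := hi.1
    exact congrArg Subtype.val (Subsingleton.elim (⟨ψN, hmemψ⟩ : Φ.range) 0)
  obtain ⟨b, hb, hb0⟩ := hG.exists_fixed_point_of_prime_dvd_card_of_fixed_point Φ.range hdvd (a := 0)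
    (fun g => Subtype.ext comp_zero)
  obtain ⟨ψ₀, hψ₀⟩ := exists_descend (K := K) (E := E) b.1 fun g => congrArg Subtype.val (hb g)
  exact ⟨ψ₀, fun h => hb0 (Subtype.ext (by rw [← hψ₀, h, comp_zero]; rfl))⟩

end Fixed

end Groth.Agent.GalCd13
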